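import Mathlib.GroupTheory.Perm.Cycle.Type
import Mathlib.GroupTheory.PGroup
import Mathlib.GroupTheory.GroupAction.Quotient
import Cfsg.Agent.Cores.GlaubermanZStar
import Cfsg.Prelude.Def_CaseTheorems

/-!
General lemmas: the sign of an involution on the cosets of a subgroup of index two in the
stabiliser of one point, non-isolated involutions of simple groups, images of quasisimple groups.
-/

set_option autoImplicit false

namespace Cfsg.Agent.H18.LFiFi22

open Subgroup MulAction

/-- The sign of an involution outside `K1` on the cosets of `K1`, when a `2`-group commuting with it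
fixes only one coset of `H`. -/
theorem sign_eq_neg_one {C : Type*} [Group C] [Finite C] (H K1 : Subgroup C) (hle : K1 ≤ H) {a : C}
    (ha : a * a = 1) (haH : a ∈ H) (haK : a ∉ K1) (htwo : ∀ x ∈ H, x ∈ K1 ∨ a * x ∈ K1)
    (R : Subgroup C) (hR : IsPGroup 2 R) (hRa : ∀ r ∈ R, r * a = a * r) (hRH : R ≤ H)
    (hfix : ∀ x : C, (∀ r ∈ R, x⁻¹ * r * x ∈ H) → x ∈ H)
    [Fintype (C ⧸ K1)] [DecidableEq (C ⧸ K1)] :
    Equiv.Perm.sign (MulAction.toPermHom C (C ⧸ K1) a) = -1 := by
  classical
  haveI : Fact (Nat.Prime 2) := ⟨Nat.prime_two⟩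
  have hai : a⁻¹ = a := inv_eq_of_mul_eq_one_left ha
  have hnorm : ∀ k ∈ K1, a * k * a ∈ K1 := by
    intro k hk
    rcases htwo _ (H.mul_mem (H.mul_mem haH (hle hk)) haH) with h | h
    · exact h
    · exfalso
      rw [← mul_assoc, ← mul_assoc, ha, one_mul] at h
      exact haK (by simpa using K1.mul_mem (K1.inv_mem hk) h)
  let proj : C ⧸ K1 → C ⧸ H := Subgroup.quotientMapOfLE hle
  have proj_mk : ∀ x : C, proj (x : C ⧸ K1) = (x : C ⧸ H) := fun x => rfl
  let u : (C ⧸ H) × Bool → C ⧸ K1 := fun p =>
    ((p.1.out * (if p.2 then a else 1) : C) : C ⧸ K1)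
  have hu : Function.Bijective u := by
    constructor
    · rintro ⟨o, b⟩ ⟨o', b'⟩ e
      have e1 : o = o' := by
        have := congrArg proj e
        simp only [u, proj_mk] at this
        rw [QuotientGroup.mk_mul_of_mem _ (by split_ifs; exacts [haH, H.one_mem]),
          QuotientGroup.mk_mul_of_mem _ (by split_ifs; exacts [haH, H.one_mem]),
          QuotientGroup.out_eq', QuotientGroup.out_eq'] at this
        exact this
      subst e1
      simp only [u, QuotientGroup.eq, mul_inv_rev] at e
      rw [mul_assoc, inv_mul_cancel_left] at e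
      cases b <;> cases b' <;> simp_all
    · intro y
      induction y using QuotientGroup.induction_on with
      | H g =>
      set o : C ⧸ H := (g : C ⧸ H) with ho
      have hmem : o.out⁻¹ * g ∈ H := QuotientGroup.eq.1 (by rw [QuotientGroup.out_eq', ho])
      rcases htwo _ hmem with h | h
      · exact ⟨(o, false), by simp only [u]; rw [QuotientGroup.eq]; simpa using h⟩
      · refine ⟨(o, true), ?_⟩
        simp only [u, if_true]
        rw [QuotientGroup.eq, mul_inv_rev, hai, mul_assoc]
        exact h
  set σ := MulAction.toPermHom C (C ⧸ K1) a with hσ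
  have hσa : ∀ y : C ⧸ K1, σ y = a • y := fun _ => rfl
  let good : Set (C ⧸ H) := {o | ∀ y : C ⧸ K1, proj y = o → a • y = y}
  have hflip : ∀ x : C, a • ((x : C) : C ⧸ K1) = (x : C ⧸ K1) ↔
      a • ((x * a : C) : C ⧸ K1) = ((x * a : C) : C ⧸ K1) := by
    intro x
    rw [Quotient.smul_mk, Quotient.smul_mk, QuotientGroup.eq, QuotientGroup.eq]
    simp only [smul_eq_mul, mul_inv_rev, hai]
    constructor
    · intro h
      have := hnorm _ h
      simpa [mul_assoc] using this
    · intro h
      have := hnorm _ h
      have e : a * (a * x⁻¹ * a * (x * a)) * a = x⁻¹ * a * x := by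
        calc a * (a * x⁻¹ * a * (x * a)) * a = (a * a) * (x⁻¹ * a * x) * (a * a) := by group
          _ = x⁻¹ * a * x := by rw [ha, one_mul, mul_one]
      rwa [e] at this
  have hgood : ∀ p : (C ⧸ H) × Bool, a • u p = u p ↔ p.1 ∈ good := by
    rintro ⟨o, b⟩
    have hb : (a • u (o, b) = u (o, b)) ↔ a • u (o, false) = u (o, false) := by
      cases b
      · exact Iff.rfl
      · simp only [u, if_true, Bool.false_eq_true, if_false, mul_one]
        exact (hflip _).symm
    rw [hb]
    constructor
    · intro h y hy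
      obtain ⟨⟨o', b'⟩, rfl⟩ := hu.2 y
      have : o' = o := by
        change proj (u (o', b')) = o at hy
        rw [← hy]
        simp only [u, proj_mk]
        rw [QuotientGroup.mk_mul_of_mem _ (by split_ifs; exacts [haH, H.one_mem]),
          QuotientGroup.out_eq']
      subst this
      cases b'
      · exact h
      · simp only [u, if_true, Bool.false_eq_true, if_false, mul_one] at h ⊢
        exact (hflip _).1 h
    · exact fun h => h _ (by simp only [u, proj_mk]; simp)
  have hP : Fintype.card (C ⧸ K1) = 2 * Nat.card (C ⧸ H) := by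
    rw [← Nat.card_eq_fintype_card, ← Nat.card_congr (Equiv.ofBijective u hu), Nat.card_prod,
      Nat.card_eq_fintype_card (α := Bool), Fintype.card_bool, mul_comm]
  have hF : Fintype.card (Function.fixedPoints σ) = 2 * Nat.card good := by
    rw [← Nat.card_eq_fintype_card]
    rw [← Nat.card_congr ((Equiv.ofBijective u hu).subtypeEquiv (p := fun p => p.1 ∈ good)
      (q := fun y => y ∈ Function.fixedPoints σ) fun p => by
        show p.1 ∈ good ↔ σ (u p) = u p
        rw [hσa, hgood])]
    rw [Nat.card_congr (show {p : (C ⧸ H) × Bool // p.1 ∈ good} ≃ ↥good × Bool from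
      { toFun := fun p => (⟨p.1.1, p.2⟩, p.1.2)
        invFun := fun p => ⟨(p.1.1, p.2), p.1.2⟩
        left_inv := fun _ => rfl
        right_inv := fun _ => rfl }), Nat.card_prod,
      Nat.card_eq_fintype_card (α := Bool), Fintype.card_bool, mul_comm]
  -- the action of `R`
  have hfixR : fixedPoints R (C ⧸ H) = {((1 : C) : C ⧸ H)} := by
    ext o
    induction o using QuotientGroup.induction_on with
    | H x =>
    simp only [mem_fixedPoints, Set.mem_singleton_iff]
    constructor
    · intro h
      refine QuotientGroup.eq.2 ?_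
      rw [mul_one]
      refine H.inv_mem (hfix x fun r hr => ?_)
      have h' : ((r * x : C) : C ⧸ H) = (x : C ⧸ H) := h ⟨r, hr⟩
      have h'' := H.inv_mem (QuotientGroup.eq.1 h')
      simpa [mul_assoc] using h''
    · intro h r
      have hx : x ∈ H := by simpa using QuotientGroup.eq.1 h
      show (((r : C) * x : C) : C ⧸ H) = (x : C ⧸ H)
      rw [QuotientGroup.eq]
      exact H.mul_mem (H.inv_mem (H.mul_mem (hRH r.2) hx)) hx
  have hodd : Nat.card (C ⧸ H) % 2 = 1 := by
    have h := hR.card_modEq_card_fixedPoints (α := C ⧸ H)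
    rw [hfixR, Nat.card_eq_fintype_card (α := ({((1 : C) : C ⧸ H)} : Set (C ⧸ H))),
      Set.card_singleton] at h
    exact h
  let G0 : SubMulAction R (C ⧸ H) :=
    { carrier := good
      smul_mem' := fun r o ho y hy => by
        have h1 : proj (((r : C))⁻¹ • y) = o := by
          induction y using QuotientGroup.induction_on with
          | H g =>
          show (((r : C)⁻¹ * g : C) : C ⧸ H) = o
          have hy' : ((g : C) : C ⧸ H) = (r : C) • o := hy
          have e : (((r : C)⁻¹ * g : C) : C ⧸ H) = (r : C)⁻¹ • ((g : C) : C ⧸ H) := rfl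
          rw [e, hy', inv_smul_smul]
        have h2 := ho _ h1
        rw [smul_smul, show a * (r : C)⁻¹ = (r : C)⁻¹ * a from
          (show Commute (r : C) a from hRa r r.2).inv_left.eq.symm, ← smul_smul] at h2
        exact MulAction.injective ((r : C)⁻¹) h2 }
  have heven : Nat.card good % 2 = 0 := by
    have h := hR.card_modEq_card_fixedPoints (α := G0)
    haveI : IsEmpty (fixedPoints R G0) := ⟨fun o => by
      have hm : ((o.1 : G0) : C ⧸ H) ∈ fixedPoints R (C ⧸ H) := fun r =>
        congrArg Subtype.val (o.2 r)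
      rw [hfixR, Set.mem_singleton_iff] at hm
      have hg : ((o.1 : G0) : C ⧸ H) ∈ good := o.1.2
      rw [hm] at hg
      have h1 := hg ((1 : C) : C ⧸ K1) (proj_mk 1)
      have h1' : ((a * 1 : C) : C ⧸ K1) = ((1 : C) : C ⧸ K1) := h1
      rw [QuotientGroup.eq, mul_one, mul_one, hai] at h1'
      exact haK h1'⟩
    rw [Nat.card_of_isEmpty (α := fixedPoints R G0)] at h
    exact h
  have hσ2 : σ ^ 2 = 1 := by rw [hσ, ← map_pow, pow_two, ha, map_one]
  have hle : Nat.card good ≤ Nat.card (C ⧸ H) := Finite.card_subtype_le _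
  rw [Equiv.Perm.sign_of_pow_two_eq_one hσ2, hP, hF, ← Nat.mul_sub, Nat.mul_div_cancel_left _ two_pos]
  exact Odd.neg_one_pow (Nat.odd_iff.2 (by omega))

/-- A non-central involution of a simple group commutes with another conjugate. -/
theorem exists_commuting_conj {G : Type*} [Group G] [Finite G] [IsSimpleGroup G] {x : G}
    (hx : orderOf x = 2) (hnc : ∃ g : G, x * g ≠ g * x) :
    ∃ g : G, Commute x (g * x * g⁻¹) ∧ g * x * g⁻¹ ≠ x := by
  classical
  by_contra hcon
  push Not at hcon
  haveI : Fact (Nat.Prime 2) := ⟨Nat.prime_two⟩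
  have hz : IsPGroup 2 (zpowers x) := by
    refine IsPGroup.of_card_dvd_pow (n := 1) ?_
    rw [Nat.card_zpowers, hx, pow_one]
  obtain ⟨P, hP⟩ := hz.exists_le_sylow
  have hxP : x ∈ P := hP (mem_zpowers x)
  have hcenP : ∀ w ∈ P, Commute x w := by
    haveI : Group.IsNilpotent (P : Subgroup G) := P.isPGroup'.isNilpotent
    set H : Subgroup (P : Subgroup G) := centralizer ({⟨x, hxP⟩} : Set (P : Subgroup G)) with hH
    have hHtop : H = ⊤ := by
      by_contra hne
      obtain ⟨n, hnN, hnH⟩ := SetLike.exists_of_lt
        (normalizerCondition_of_isNilpotent H (lt_top_iff_ne_top.mpr hne))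
      have hxH : (⟨x, hxP⟩ : (P : Subgroup G)) ∈ H := mem_centralizer_singleton_iff.mpr rfl
      have h1 := mem_centralizer_singleton_iff.mp ((mem_normalizer_iff.mp hnN _).mp hxH)
      have h2 : Commute x ((n : G) * x * (n : G)⁻¹) := (congrArg Subtype.val h1).symm
      have h3 := mul_inv_eq_iff_eq_mul.mp (hcon _ h2)
      exact hnH (mem_centralizer_singleton_iff.mpr (Subtype.ext h3))
    intro w hw
    have h1 : (⟨w, hw⟩ : (P : Subgroup G)) ∈ H := hHtop ▸ mem_top _
    exact (congrArg Subtype.val (mem_centralizer_singleton_iff.mp h1)).symm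
  obtain ⟨g, hg⟩ := hnc
  have hO := Cores.glaubermanZStar P hx hxP (fun k hk => hcon k (hcenP _ hk)) g
  haveI : (oddCore G).Characteristic := Cores.pPrimeCore_characteristic
  have hbot : oddCore G = ⊥ := by
    rcases IsSimpleGroup.eq_bot_or_eq_top_of_normal (oddCore G) inferInstance with h | h
    · exact h
    · exfalso
      have hodd : Odd (Nat.card ↥(oddCore G)) := Cores.odd_card_oddCore
      rw [h, Subgroup.card_top] at hodd
      exact (Nat.not_even_iff_odd.2 hodd) (even_iff_two_dvd.2 (hx ▸ orderOf_dvd_natCard x))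
  rw [hbot, mem_bot, mul_inv_eq_one, mul_inv_eq_iff_eq_mul] at hO
  exact hg hO

/-- A non-trivial image of a quasisimple group is quasisimple. -/
theorem isQuasisimple_map {A B : Type*} [Group A] [Group B] (hA : Cfsg.IsQuasisimple A)
    (f : A →* B) (hf : Function.Surjective f) [Nontrivial B] : Cfsg.IsQuasisimple B := by
  obtain ⟨hp, hs⟩ := hA
  have hBp : Group.IsPerfect B := by
    refine ⟨eq_top_iff.2 fun b _ => ?_⟩
    obtain ⟨a, rfl⟩ := hf b
    have h : a ∈ commutator A := hp.commutator_eq_top ▸ mem_top a
    have : Subgroup.map f (commutator A) ≤ commutator B := by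
      rw [commutator_def, commutator_def, Subgroup.map_commutator]
      exact Subgroup.commutator_mono le_top le_top
    exact this (mem_map_of_mem f h)
  haveI := hs
  let g : A →* B ⧸ center B := (QuotientGroup.mk' (center B)).comp f
  have hg : Function.Surjective g := (QuotientGroup.mk'_surjective _).comp hf
  have hZ : center A ≤ g.ker := by
    intro a ha
    rw [MonoidHom.mem_ker]
    show ((f a : B) : B ⧸ center B) = 1
    rw [QuotientGroup.eq_one_iff, Subgroup.mem_center_iff]
    intro b
    obtain ⟨a', rfl⟩ := hf b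
    rw [← map_mul, ← map_mul, Subgroup.mem_center_iff.1 ha a']
  let gb : A ⧸ center A →* B ⧸ center B := QuotientGroup.lift (center A) g hZ
  have hgb : Function.Surjective gb := fun y => by
    obtain ⟨a, rfl⟩ := hg y
    exact ⟨(a : A ⧸ center A), rfl⟩
  haveI : Nontrivial (B ⧸ center B) := by
    by_contra hn
    rw [not_nontrivial_iff_subsingleton] at hn
    have hc : ∀ x y : B, x * y = y * x := fun x y =>
      (Subgroup.mem_center_iff.1 ((QuotientGroup.eq_one_iff x).1 (Subsingleton.elim _ _)) y).symm
    have hbot : commutator B = ⊥ := by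
      rw [commutator_def, Subgroup.commutator_eq_bot_iff_le_centralizer]
      exact fun x _ => Subgroup.mem_centralizer_iff.2 fun y _ => hc y x
    obtain ⟨x, hx⟩ := exists_ne (1 : B)
    rw [hBp.commutator_eq_top] at hbot
    exact hx (mem_bot.1 (hbot ▸ mem_top x))
  exact ⟨hBp, IsSimpleGroup.isSimpleGroup_of_surjective gb hgb⟩

end Cfsg.Agent.H18.LFiFi22
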