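import Cfsg.Agent.H43.LFi.Code

/-!
Kernel checks on the model of the large Fischer type centraliser: vectors moved by an involution
fixing a root by at most that root.
-/

set_option autoImplicit false
set_option Elab.async false
set_option maxRecDepth 100000
set_option maxHeartbeats 4000000

namespace Cfsg.Agent.H18.LFiFi22

open Cfsg.Agent.Compute Cfsg.Agent.H41.SUSix Cfsg.Agent.H41.LFi Cfsg.Agent.H43.LFi

/-- Some number below `n` satisfies `f`. -/
noncomputable def anyN (n : ℕ) (f : ℕ → Bool) : Bool := Nat.rec false (fun i acc => f i || acc) n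

theorem anyN_elim : ∀ {n : ℕ} {f : ℕ → Bool}, anyN n f = true → ∃ i < n, f i = true
  | 0, _, h => Bool.noConfusion h
  | n + 1, f, h => by
    change (f n || anyN n f) = true at h
    rw [Bool.or_eq_true] at h
    rcases h with h | h
    · exact ⟨n, Nat.lt_succ_self n, h⟩
    · obtain ⟨i, hi, hf⟩ := anyN_elim h
      exact ⟨i, Nat.lt_succ_of_lt hi, hf⟩

/-- The coded parity of a vector. -/
noncomputable def wC (v : ℕ) : ℕ := cond (Nat.beq (clsC v) 1) 1 0

/-- The coded polar form. -/
noncomputable def polC (a b : ℕ) : ℕ := Nat.xor (wC (Nat.xor a b)) (Nat.xor (wC a) (wC b))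

/-- A vector with prescribed values at a root and its primitive multiple. -/
noncomputable def goodC (v a : ℕ) : Bool :=
  Nat.beq (polC v a) 0 && Nat.beq (polC (scalC 2 v) a) 1

/-- For the involutions of the subgroup of order 128. -/
theorem moved_ok : allN 128 (fun k => Nat.beq k 0 || !Nat.beq (mulS k k) 0 ||
    allN 4096 (fun v => !Nat.beq (clsC v) 2 || !Nat.beq (mulVecC (mC k) v) v ||
      anyN 4096 (fun a => goodC v a &&
        (Nat.beq (mulVecC (mC k) a) a || Nat.beq (mulVecC (mC k) a) (Nat.xor a v))))) = true := by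
  decide +kernel

/-- Orthogonal vectors of the second class. -/
theorem third_ok : allN 4096 (fun w => !Nat.beq (clsC w) 3 || !Nat.beq (polC 5 w) 0 ||
    anyN 1024 (fun a => goodC 5 a && Nat.beq (polC w a) 0)) = true := by
  decide +kernel

theorem root_partner : goodC 5 17 = true ∧ clsC 17 = 2 ∧ clsC (Nat.xor 17 5) = 2 ∧
    clsC (scalC 2 5) = 2 ∧ fe 2 = ω₄ := by
  decide +kernel

end Cfsg.Agent.H18.LFiFi22
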