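import Cfsg.Agent.H18.LFiFi22.Fusion
import Cfsg.Agent.H28.PairCent.AutQuot
import Cfsg.Agent.H45.Fi22Top
import Cfsg.Agent.H46.Fi22Out.Main
import Cfsg.Agent.Unitary.Simple
import Cfsg.Prelude.Def_Spor_Fi22

/-!
Large Fischer type: the centraliser of a non-central involution of the core is an extension of
the automorphism group of `Fi22`, given the characterisation of `Fi22` and the four-group.
-/

set_option autoImplicit false
set_option maxRecDepth 4000

namespace Cfsg.Agent.H18.LFiFi22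

open Subgroup Cfsg.Agent.H41.SUSix Cfsg.Agent.H41.LFi
open Cfsg.Agent.H92.ExtraForm (zp zp_inj)
open Cfsg.Agent.H43.LFi (vec_add_self)

universe u

/-- The centraliser of the pair is quasisimple and is `PSU(6,2)` modulo the pair. -/
structure Six {G : Type u} [Group G] (t e : G) : Prop where
  qs : Cfsg.IsQuasisimple ↥(CE t e)
  quot : ∃ (K : Type) (_ : Field K) (_ : Fintype K), Fintype.card K = 4 ∧
    ∃ f : ↥(CE t e) →* Cfsg.PSU 6 K 2, Function.Surjective f ∧
      ∀ x : ↥(CE t e), f x = 1 ↔ ((x : G) = 1 ∨ (x : G) = t ∨ (x : G) = e ∨ (x : G) = t * e)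

/-- The characterisation of `Fi22` by a transposition centraliser. -/
def Char22 : Prop :=
  ∀ {G : Type u} [Group G] [Finite G] (d : G), orderOf d = 2 →
    Cfsg.IsQuasisimple ↥(centralizer ({d} : Set G)) →
    ∀ [((zpowers d).subgroupOf (centralizer ({d} : Set G))).Normal] (K : Type) [Field K]
      [Fintype K], Fintype.card K = 4 →
      (↥(centralizer ({d} : Set G)) ⧸ (zpowers d).subgroupOf (centralizer ({d} : Set G)) ≃*
        Cfsg.PSU 6 K 2) →
      (∃ g : G, g * d * g⁻¹ ∈ centralizer ({d} : Set G) ∧ g * d * g⁻¹ ≠ d) →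
      Cfsg.Spor.IsoFi22 G

variable {G : Type u} [Group G] [Finite G] {z : G} {Q : Subgroup G}

theorem mem_zpowers_two {H : Type*} [Group H] {s : H} (hs : s * s = 1) {x : H} :
    x ∈ zpowers s ↔ x = 1 ∨ x = s := by
  constructor
  · rintro ⟨n, rfl⟩
    obtain ⟨k, rfl | rfl⟩ := Int.even_or_odd' n
    · left
      show s ^ (2 * k) = 1
      rw [zpow_mul, show s ^ (2 : ℤ) = 1 by rw [zpow_two, hs], one_zpow]
    · right
      show s ^ (2 * k + 1) = s
      rw [zpow_add, zpow_mul, show s ^ (2 : ℤ) = 1 by rw [zpow_two, hs], one_zpow, one_mul, zpow_one]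
  · rintro (rfl | rfl)
    · exact one_mem _
    · exact mem_zpowers _

omit [Finite G] in
/-- Transport by conjugation. -/
theorem Six.conj {t e t' e' : G} (h : Six t e) (c : G)
    (hmem : ∀ x : G, x ∈ CE t' e' ↔ c⁻¹ * x * c ∈ CE t e)
    (hset : ∀ x : G, (c⁻¹ * x * c = 1 ∨ c⁻¹ * x * c = t ∨ c⁻¹ * x * c = e ∨ c⁻¹ * x * c = t * e) ↔
      (x = 1 ∨ x = t' ∨ x = e' ∨ x = t' * e')) : Six t' e' := by
  let φ : ↥(CE t' e') ≃* ↥(CE t e) :=
    { toFun := fun x => ⟨c⁻¹ * x * c, (hmem x).1 x.2⟩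
      invFun := fun y => ⟨c * y * c⁻¹, (hmem _).2 (by
        rw [show c⁻¹ * (c * (y : G) * c⁻¹) * c = y by group]; exact y.2)⟩
      left_inv := fun x => Subtype.ext (by show c * (c⁻¹ * (x : G) * c) * c⁻¹ = x; group)
      right_inv := fun y => Subtype.ext (by show c⁻¹ * (c * (y : G) * c⁻¹) * c = y; group)
      map_mul' := fun x y => Subtype.ext (by
        show c⁻¹ * ((x : G) * y) * c = c⁻¹ * x * c * (c⁻¹ * y * c); group) }
  haveI : Nontrivial ↥(CE t' e') := by
    obtain ⟨-, hs⟩ := h.qs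
    haveI := hs.toNontrivial
    haveI : Nontrivial ↥(CE t e) := (QuotientGroup.mk'_surjective (center ↥(CE t e))).nontrivial
    exact φ.toEquiv.nontrivial
  refine ⟨isQuasisimple_map h.qs φ.symm.toMonoidHom φ.symm.surjective, ?_⟩
  obtain ⟨K, i1, i2, hK, f, hf, hker⟩ := h.quot
  refine ⟨K, i1, i2, hK, f.comp φ.toMonoidHom, hf.comp φ.surjective, fun x => ?_⟩
  exact (hker (φ x)).trans (hset x)

/-- Class two for the non-central involutions not conjugate to `z`. -/
theorem cls_eq_two (S : LSetup z Q)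
    (pair : ∀ g : G, g * z * g⁻¹ ∈ Q → g * z * g⁻¹ ≠ z → H92.PairSetting Q z g)
    {t : G} (htQ : t ∈ Q) (ht1 : t ≠ 1) (htt : t * t = 1) (hnc : ¬ IsConj z t) :
    cls (S.π t) = 2 := by
  have hw := S.wt_zero_of_sq htQ htt
  have h0 : S.π t ≠ 0 := fun h => by
    rcases (S.π_zero t htQ).1 h with h' | h'
    · exact ht1 h'
    · exact hnc (h' ▸ IsConj.refl z)
  obtain ⟨f1, f0, f3⟩ := facts (S.π t)
  have n1 : cls (S.π t) ≠ 1 := fun h => by
    rw [(cls_one_iff _).1 h] at hw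
    exact absurd hw (by decide)
  have n0 : cls (S.π t) ≠ 0 := fun h => h0 (f0.1 h)
  by_contra n2
  obtain ⟨g, hg1, hg2⟩ := S.nwc
  have h3 : cls (S.π t) = 3 := by omega
  have hs3 := S.cls_eq_three (pair g hg1 hg2)
  obtain ⟨c, -, hc⟩ := S.conj_of_cls hg1 htQ (by rw [hs3, h3]) (Or.inr hs3)
  exact hnc (isConj_iff.2 ⟨c * g, by rw [← hc]; group⟩)

/-- The choice between the two multiples. -/
theorem exists_second (S : LSetup z Q) {t0 e0 t : G} (ht0 : t0 ∈ Q) (he0 : e0 ∈ Q)
    (ht0' : t0 * t0 = 1) (he0' : e0 * e0 = 1) (hte0 : t0 * e0 = e0 * t0)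
    (hπ0 : S.π e0 = ω₄ • S.π t0) {c : G} {θ : Bool} (hθ : Semi θ (S.ρ c))
    (hρ : S.ρ c (S.π t0) = S.π t) :
    ∃ e1, e1 ∈ Q ∧ e1 * e1 = 1 ∧
      S.ρ c (S.π e1) = ω₄ • S.π t ∧ (∀ y : G, y ∈ CE t0 e0 ↔ y ∈ CE t0 e1) ∧
      (∀ y : G, (y = 1 ∨ y = t0 ∨ y = e0 ∨ y = t0 * e0) ↔
        (y = 1 ∨ y = t0 ∨ y = e1 ∨ y = t0 * e1)) := by
  cases θ
  · exact ⟨e0, he0, he0', by rw [hπ0, hθ.smul, hρ]; rfl, fun _ => Iff.rfl, fun _ => Iff.rfl⟩
  · refine ⟨t0 * e0, mul_mem ht0 he0, ?_, ?_, fun y => ?_, fun y => ?_⟩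
    · calc t0 * e0 * (t0 * e0) = t0 * (e0 * t0) * e0 := by group
        _ = (t0 * t0) * (e0 * e0) := by rw [← hte0]; group
        _ = 1 := by rw [ht0', he0', one_mul]
    · rw [S.π_mul t0 ht0 e0 he0, hπ0, ← omega_sq_smul, hθ.smul, hρ,
        show tw true (ω₄ * ω₄) = ω₄ from by decide +kernel]
    · rw [mem_CE, mem_CE]
      refine and_congr_right fun h1 => ⟨fun h2 => ?_, fun h2 => ?_⟩
      · exact ((show Commute y t0 from h1).mul_right h2).eq
      · have h3 := ((show Commute y t0 from h1).mul_right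
          (show Commute y (t0 * e0) from h2)).eq
        rwa [← mul_assoc t0, ht0', one_mul] at h3
    · have e2 : t0 * (t0 * e0) = e0 := by rw [← mul_assoc, ht0', one_mul]
      rw [e2]
      tauto

set_option maxHeartbeats 1000000 in
/-- The working data for a given involution, from some pair. -/
theorem exists_hyp (S : LSetup z Q)
    (pair : ∀ g : G, g * z * g⁻¹ ∈ Q → g * z * g⁻¹ ≠ z → H92.PairSetting Q z g)
    {t0 e0 : G} (ht0 : t0 ∈ Q) (he0 : e0 ∈ Q) (ht0' : t0 * t0 = 1) (he0' : e0 * e0 = 1)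
    (hv0 : cls (S.π t0) = 2) (hπ0 : S.π e0 = ω₄ • S.π t0) (h6 : Six t0 e0)
    {t : G} (htQ : t ∈ Q) (htt : t * t = 1) (hv : cls (S.π t) = 2) :
    ∃ e : G, Hyp S t e ∧ Six t e := by
  obtain ⟨c, hc, hct⟩ := S.conj_of_cls ht0 htQ (by rw [hv0, hv]) (Or.inl hv0)
  obtain ⟨θ, hθ⟩ := S.ρ_semi c hc
  have hρ : S.ρ c (S.π t0) = S.π t := by rw [← S.ρ_π c hc t0 ht0, hct]
  have hte0 : t0 * e0 = e0 * t0 := by
    refine (S.comm_iff ht0 he0).2 ?_
    rw [hπ0, pol_symm]
    exact pol_self_omega (by rw [wt_cases, if_neg (by rw [hv0]; norm_num)])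
  obtain ⟨e1, he1, he1', hπ1, hmem1, hset1⟩ :=
    exists_second S ht0 he0 ht0' he0' hte0 hπ0 hθ hρ
  set e := c * e1 * c⁻¹ with he
  have hQe : e ∈ Q := S.norm c hc e1 he1
  have hee : e * e = 1 := by
    rw [he, show c * e1 * c⁻¹ * (c * e1 * c⁻¹) = c * (e1 * e1) * c⁻¹ by group, he1']; group
  have hcomm : ∀ (x s : G), x * (c * s * c⁻¹) = c * s * c⁻¹ * x ↔
      c⁻¹ * x * c * s = s * (c⁻¹ * x * c) := fun x s => by
    constructor
    · intro h
      calc c⁻¹ * x * c * s = c⁻¹ * (x * (c * s * c⁻¹)) * c := by group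
        _ = s * (c⁻¹ * x * c) := by rw [h]; group
    · intro h
      calc x * (c * s * c⁻¹) = c * (c⁻¹ * x * c * s) * c⁻¹ := by group
        _ = c * s * c⁻¹ * x := by rw [h]; group
  have h6' : Six t e := by
    refine h6.conj c (fun x => ?_) fun x => ?_
    · rw [hmem1, mem_CE, mem_CE, ← hct, hcomm x t0, hcomm x e1]
    · rw [hset1]
      have hx : ∀ s : G, c⁻¹ * x * c = s ↔ x = c * s * c⁻¹ := fun s => by
        constructor
        · rintro rfl; group
        · rintro rfl; group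
      rw [hx, hx, hx, hx, hct, show c * 1 * c⁻¹ = 1 by group,
        show c * (t0 * e1) * c⁻¹ = (c * t0 * c⁻¹) * (c * e1 * c⁻¹) by group, hct]
  refine ⟨e, ⟨⟨pair, htQ, hQe, htt, hee, hv, by rw [he, S.ρ_π c hc e1 he1, hπ1]⟩, h6'.qs.1, ?_⟩, h6'⟩
  -- a commuting conjugate
  obtain ⟨K, i1, i2, hK, f, hf, hker⟩ := h6'.quot
  have hπe : S.π e = ω₄ • S.π t := by rw [he, S.ρ_π c hc e1 he1, hπ1]
  have hne : ∀ q : G, q = t ∨ q = e ∨ q = t * e → q ∈ Q ∧ cls (S.π q) = 2 := by
    rintro q (rfl | rfl | rfl)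
    · exact ⟨htQ, hv⟩
    · exact ⟨hQe, by rw [hπe]; exact cls_omega hv⟩
    · refine ⟨mul_mem htQ hQe, ?_⟩
      rw [S.π_mul t htQ e hQe, hπe, ← omega_sq_smul, mul_smul]
      exact cls_omega (cls_omega hv)
  have hzc : z ∈ CE t e := mem_CE.2 ⟨(S.le t htQ).symm, (S.le e hQe).symm⟩
  let zE : ↥(CE t e) := ⟨z, hzc⟩
  have hfz : f zE ≠ 1 := fun h => by
    rcases (hker zE).1 h with h | h
    · exact S.z_ne h
    · obtain ⟨-, h2⟩ := hne z h
      rw [S.π_z, ((facts (0 : Vec)).2.1).2 rfl] at h2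
      exact absurd h2 (by norm_num)
  haveI : Fact (Nat.Prime 2) := ⟨Nat.prime_two⟩
  haveI : IsSimpleGroup (Cfsg.PSU 6 K 2) :=
    Cfsg.Agent.Unitary.isSimpleGroup_PSU (by rw [hK]; rfl) (by norm_num) (by norm_num)
  have ho : orderOf (f zE) = 2 := orderOf_eq_prime (by
    rw [← map_pow, show zE ^ 2 = 1 from Subtype.ext (by rw [pow_two]; exact S.z_sq), map_one]) hfz
  have hnc : ∃ g, f zE * g ≠ g * f zE := by
    by_contra hall
    push Not at hall
    have hcen : f zE ∈ center (Cfsg.PSU 6 K 2) := mem_center_iff.2 fun g => (hall g).symm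
    rcases IsSimpleGroup.eq_bot_or_eq_top_of_normal (center (Cfsg.PSU 6 K 2)) inferInstance with
      h | h
    · rw [h, mem_bot] at hcen; exact hfz hcen
    · refine hfz ?_
      have hab : ∀ a b : Cfsg.PSU 6 K 2, a * b = b * a := fun a b =>
        (mem_center_iff.1 (h ▸ mem_top a) b).symm
      letI : CommGroup (Cfsg.PSU 6 K 2) := { (inferInstance : Group _) with mul_comm := hab }
      exact MonoidHom.mem_ker.1 (Abelianization.commutator_subset_ker f
        (h6'.qs.1.commutator_eq_top ▸ mem_top zE))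
  obtain ⟨g, hg1, hg2⟩ := exists_commuting_conj ho hnc
  obtain ⟨hE, rfl⟩ := hf g
  refine ⟨(hE : G), hE.2, fun hh => hg2 ?_, ?_⟩
  · rw [← map_inv, ← map_mul, ← map_mul]
    exact congrArg f (Subtype.ext hh)
  set z1 : ↥(CE t e) := hE * zE * hE⁻¹ with hz1
  have h11 : z1 * zE * z1⁻¹ * zE⁻¹ ∈ f.ker := by
    rw [MonoidHom.mem_ker, map_mul, map_mul, map_mul, map_inv, map_inv, hz1, map_mul, map_mul,
      map_inv, ← hg1.eq, mul_inv_cancel_right, mul_inv_cancel]
  have hval : ((z1 * zE * z1⁻¹ * zE⁻¹ : ↥(CE t e)) : G) =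
      (hE : G) * z * (hE : G)⁻¹ * z * ((hE : G) * z * (hE : G)⁻¹)⁻¹ * z⁻¹ := by
    rw [hz1]; push_cast; rfl
  rcases (hker _).1 h11 with h | h
  · rw [hval, mul_inv_eq_one, mul_inv_eq_iff_eq_mul] at h
    exact h.symm
  · exfalso
    obtain ⟨hq, hq2⟩ := hne _ h
    rw [hval] at hq hq2
    set u := (hE : G) * z * (hE : G)⁻¹ with hu
    have hm : u * z * u⁻¹ ∈ Q := by
      have := mul_mem hq S.hzQ
      rwa [inv_mul_cancel_right] at this
    have hcls : cls (S.π (u * z * u⁻¹)) = 2 := by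
      rw [← inv_mul_cancel_right (u * z * u⁻¹) z, S.π_mul _ hq _ S.hzQ, S.π_z, add_zero]
      exact hq2
    by_cases h' : u * z * u⁻¹ = z
    · rw [h', S.π_z, ((facts (0 : Vec)).2.1).2 rfl] at hcls
      exact absurd hcls (by norm_num)
    · rw [S.cls_eq_three (pair u hm h')] at hcls
      exact absurd hcls (by norm_num)

set_option maxHeartbeats 2000000 in
/-- The centraliser of `t`. -/
theorem centralizer_structure (hchar : Char22.{u}) (S : LSetup z Q) {t e : G} (H : Hyp S t e)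
    (h6 : Six t e) (ht1 : t ≠ 1) [hn : ((zpowers t).subgroupOf (CT t)).Normal] :
    Cfsg.IsQuasisimple ↥(Cfsg.generalizedFittingSubgroup ↥(CT t)) ∧
      (Cfsg.generalizedFittingSubgroup ↥(CT t)).index = 2 ∧
      (∃ htc : t ∈ CT t, (⟨t, htc⟩ : ↥(CT t)) ∈ Cfsg.generalizedFittingSubgroup ↥(CT t)) ∧
      Nonempty (↥(CT t) ⧸ (zpowers t).subgroupOf (CT t) ≃* MulAut Cfsg.Spor.Fi22) := by
  classical
  obtain ⟨f, hf1, hf2⟩ := H.exists_sign
  obtain ⟨b, hfb, hbe⟩ := H.exists_swap hf1 hf2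
  obtain ⟨a, haQ, ha2, hat, hae, -, -⟩ := H.exists_alpha
  have hpa : pol (ω₄ • S.π t) (S.π a) = 1 := by
    rcases zmod2_cases (pol (ω₄ • S.π t) (S.π a)) with h0 | h1
    · exfalso
      rw [← H.he] at h0
      rw [← (S.comm_iff H.heQ haQ).2 h0, mul_inv_cancel_right] at hae
      exact S.z_ne (mul_eq_right.1 hae.symm)
    · exact h1
  let aC : ↥(CT t) := ⟨a, mem_CT.2 hat⟩
  have hfa : f aC = -1 := hf2 aC haQ hpa
  let tC : ↥(CT t) := ⟨t, mem_CT.2 rfl⟩
  let eC : ↥(CT t) := ⟨e, H.e_mem_CT⟩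
  let Tn := (zpowers t).subgroupOf (CT t)
  let K0 := f.ker
  let mk := QuotientGroup.mk' Tn
  have hTn : ∀ x : ↥(CT t), x ∈ Tn ↔ ((x : G) = 1 ∨ (x : G) = t) := fun x =>
    mem_subgroupOf.trans (mem_zpowers_two H.tt)
  have mk_eq : ∀ x y : ↥(CT t), mk x = mk y ↔ ((y : G) = x ∨ (y : G) = x * t) := by
    intro x y
    show (x : ↥(CT t) ⧸ Tn) = (y : ↥(CT t) ⧸ Tn) ↔ _
    rw [QuotientGroup.eq, hTn]
    push_cast
    rw [inv_mul_eq_one, inv_mul_eq_iff_eq_mul]
    exact or_congr_left eq_comm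
  have hK0 : ∀ x : ↥(CT t), x ∈ K0 ↔ f x = 1 := fun _ => MonoidHom.mem_ker
  have heK : eC ∈ K0 := hf1 eC rfl
  have htK : tC ∈ K0 := hf1 tC H.te
  have hTK : Tn ≤ K0 := by
    intro x hx
    rcases (hTn x).1 hx with h | h
    · rw [show x = 1 from Subtype.ext h]; exact one_mem _
    · rw [show x = tC from Subtype.ext h]; exact htK
  have hcent : ∀ x ∈ K0, (x : G) * e * (x : G)⁻¹ = e ∨ (x : G) * e * (x : G)⁻¹ = t * e →
      (x : G) * e = e * x := by
    rintro x hx (h | h)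
    · exact mul_inv_eq_iff_eq_mul.1 h
    · exfalso
      have h' : ((b⁻¹ * x : ↥(CT t)) : G) * e = e * (b⁻¹ * x : ↥(CT t)) := by
        rw [← mul_inv_eq_iff_eq_mul]
        push_cast
        calc (b : G)⁻¹ * x * e * ((b : G)⁻¹ * x)⁻¹ = (b : G)⁻¹ * ((x : G) * e * (x : G)⁻¹) * b := by
              group
          _ = (b : G)⁻¹ * ((b : G) * e * (b : G)⁻¹) * b := by rw [h, hbe]
          _ = e := by group
      have := hf1 _ h'
      rw [map_mul, map_inv, hfb, (hK0 x).1 hx] at this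
      exact absurd this (by decide)
  have hidx : K0.index = 2 := by
    have hr : f.range = ⊤ := by
      rw [eq_top_iff]
      intro u _
      rcases Int.units_eq_one_or u with rfl | rfl
      · exact one_mem _
      · exact ⟨aC, hfa⟩
    rw [Subgroup.index_ker, hr, Subgroup.card_top, Nat.card_eq_fintype_card]
    rfl
  -- the quotient
  let Kb := K0.map mk
  let d : ↥Kb := ⟨mk eC, mem_map_of_mem mk heK⟩
  have het : e ≠ 1 ∧ e ≠ t := by
    constructor <;> intro h
    · have := H.hve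
      rw [h, S.π_one, ((facts (0 : Vec)).2.1).2 rfl] at this
      exact absurd this (by norm_num)
    · have hse := H.he
      rw [h] at hse
      have h0 : (ω₄ * ω₄) • S.π t = 0 := by rw [omega_sq_smul, ← hse]; exact vec_add_self _
      have := H.cls_te
      rw [H.π_te, h0, ((facts (0 : Vec)).2.1).2 rfl] at this
      exact absurd this (by norm_num)
  have hd1 : d ≠ 1 := fun h => by
    have h' : mk eC = mk 1 := by rw [map_one]; exact congrArg Subtype.val h
    rcases (mk_eq _ _).1 h' with h'' | h''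
    · exact het.1 h''.symm
    · exact het.2 (by
        have h3 : e * t = 1 := h''.symm
        rw [eq_inv_of_mul_eq_one_left h3, inv_eq_of_mul_eq_one_left H.tt])
  have hd2 : d * d = 1 := Subtype.ext (by
    show mk eC * mk eC = 1
    rw [← map_mul, show eC * eC = 1 from Subtype.ext H.ee, map_one])
  let ψ : ↥(CE t e) →* ↥(centralizer ({d} : Set ↥Kb)) :=
    MonoidHom.mk' (fun x =>
      ⟨⟨mk (Subgroup.inclusion H.CE_le x), mem_map_of_mem mk (hf1 _ (mem_CE.1 x.2).2)⟩,
        mem_centralizer_singleton_iff.2 (Subtype.ext (by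
          show mk (Subgroup.inclusion H.CE_le x) * mk eC = mk eC * mk (Subgroup.inclusion H.CE_le x)
          rw [← map_mul, ← map_mul]
          exact congrArg mk (Subtype.ext (mem_CE.1 x.2).2)))⟩)
      fun x y => Subtype.ext (Subtype.ext
        ((congrArg mk (map_mul (Subgroup.inclusion H.CE_le) x y)).trans (map_mul mk _ _)))
  have hψ : Function.Surjective ψ := by
    rintro ⟨⟨_, x, hx, rfl⟩, hy⟩
    have h' := congrArg Subtype.val (mem_centralizer_singleton_iff.1 hy)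
    change mk x * mk eC = mk eC * mk x at h'
    rw [← map_mul, ← map_mul] at h'
    have hxe : (x : G) * e = e * x := by
      refine hcent x hx ?_
      rcases (mk_eq _ _).1 h' with h'' | h''
      · left
        rw [mul_inv_eq_iff_eq_mul]
        exact h''.symm
      · right
        have hxt : (x : G) * t = t * x := mem_CT.1 x.2
        change e * (x : G) = (x : G) * e * t at h''
        rw [mul_inv_eq_iff_eq_mul]
        calc (x : G) * e = (x : G) * e * t * t := by rw [mul_assoc _ t t, H.tt, mul_one]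
          _ = e * ((x : G) * t) := by rw [← h'', mul_assoc]
          _ = (e * t) * x := by rw [hxt, mul_assoc]
          _ = t * e * x := by rw [H.te]
    exact ⟨⟨(x : G), mem_CE.2 ⟨mem_CT.1 x.2, hxe⟩⟩, rfl⟩
  haveI : Nontrivial ↥(centralizer ({d} : Set ↥Kb)) :=
    ⟨⟨⟨d, mem_centralizer_singleton_iff.2 rfl⟩, 1, fun h => hd1 (congrArg Subtype.val h)⟩⟩
  have hqd := isQuasisimple_map h6.qs ψ hψ
  haveI : ((zpowers d).subgroupOf (centralizer ({d} : Set ↥Kb))).Normal := ⟨fun x hx y => by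
    rw [mem_subgroupOf] at hx ⊢
    obtain ⟨n, hn⟩ := hx
    refine ⟨n, ?_⟩
    have hc : Commute (y : ↥Kb) (d ^ n) :=
      (show Commute (y : ↥Kb) d from mem_centralizer_singleton_iff.1 y.2).zpow_right n
    show d ^ n = (y : ↥Kb) * (x : ↥Kb) * (y : ↥Kb)⁻¹
    rw [← hn]
    show d ^ n = (y : ↥Kb) * d ^ n * (y : ↥Kb)⁻¹
    rw [hc.eq, mul_inv_cancel_right]⟩
  obtain ⟨K, i1, i2, hK, p, hp, hpker⟩ := h6.quot
  let q2 := (QuotientGroup.mk' ((zpowers d).subgroupOf (centralizer ({d} : Set ↥Kb)))).comp ψ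
  have hkq : q2.ker = p.ker := by
    ext x
    rw [MonoidHom.mem_ker, MonoidHom.mem_ker, hpker, MonoidHom.comp_apply, QuotientGroup.mk'_apply,
      QuotientGroup.eq_one_iff, mem_subgroupOf, mem_zpowers_two hd2]
    have e1 : ((ψ x : ↥Kb) = 1) ↔ mk (Subgroup.inclusion H.CE_le x) = mk 1 := by
      rw [map_one]; exact Subtype.ext_iff
    have e2 : ((ψ x : ↥Kb) = d) ↔ mk (Subgroup.inclusion H.CE_le x) = mk eC := Subtype.ext_iff
    rw [e1, e2, eq_comm (b := mk 1), eq_comm (b := mk eC), mk_eq, mk_eq]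
    show ((x : G) = 1 ∨ (x : G) = 1 * t) ∨ ((x : G) = e ∨ (x : G) = e * t) ↔ _
    rw [one_mul, ← H.te]
    tauto
  have eQ : ↥(centralizer ({d} : Set ↥Kb)) ⧸ (zpowers d).subgroupOf (centralizer ({d} : Set ↥Kb)) ≃*
      Cfsg.PSU 6 K 2 :=
    (QuotientGroup.quotientKerEquivOfSurjective q2
      ((QuotientGroup.mk'_surjective _).comp hψ)).symm.trans
      ((QuotientGroup.quotientMulEquivOfEq hkq).trans
        (QuotientGroup.quotientKerEquivOfSurjective p hp))
  have hab : (a : G) * (t * e) * a⁻¹ = z * (t * e) := by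
    calc a * (t * e) * a⁻¹ = (a * t) * e * a⁻¹ := by group
      _ = t * (a * e * a⁻¹) := by rw [hat]; group
      _ = z * (t * e) := by rw [hae, ← mul_assoc, H.tz, mul_assoc]
  have hnwc : ∃ g : ↥Kb, g * d * g⁻¹ ∈ centralizer ({d} : Set ↥Kb) ∧ g * d * g⁻¹ ≠ d := by
    have hfab : aC * b ∈ K0 := by
      rw [hK0, map_mul, hfa, hfb]; rfl
    refine ⟨⟨mk (aC * b), mem_map_of_mem mk hfab⟩, ?_, ?_⟩
    · rw [mem_centralizer_singleton_iff]
      apply Subtype.ext
      show mk (aC * b) * mk eC * (mk (aC * b))⁻¹ * mk eC =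
        mk eC * (mk (aC * b) * mk eC * (mk (aC * b))⁻¹)
      rw [← map_inv, ← map_mul, ← map_mul, ← map_mul, ← map_mul]
      refine congrArg mk (Subtype.ext ?_)
      push_cast
      show a * (b : G) * e * (a * (b : G))⁻¹ * e = e * (a * (b : G) * e * (a * (b : G))⁻¹)
      rw [show a * (b : G) * e * (a * (b : G))⁻¹ = a * ((b : G) * e * (b : G)⁻¹) * a⁻¹ by group,
        hbe, hab]
      have c1 : Commute e (z * (t * e)) :=
        (show Commute e z from H.ez).mul_right ((show Commute e t from H.te.symm).mul_right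
          (Commute.refl e))
      exact c1.symm.eq
    · intro h
      have h' : mk (aC * b) * mk eC * (mk (aC * b))⁻¹ = mk eC := congrArg Subtype.val h
      rw [← map_inv, ← map_mul, ← map_mul] at h'
      have h'' := (mk_eq _ _).1 h'
      push_cast at h''
      change e = a * (b : G) * e * (a * (b : G))⁻¹ ∨ e = a * (b : G) * e * (a * (b : G))⁻¹ * t at h''
      rw [show a * (b : G) * e * (a * (b : G))⁻¹ = a * ((b : G) * e * (b : G)⁻¹) * a⁻¹ by group,
        hbe, hab] at h''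
      rcases h'' with h3 | h3
      · have h4 : z * t = 1 := by
          rw [← mul_assoc] at h3
          exact mul_eq_right.1 h3.symm
        have h5 : z = t := by
          rw [eq_inv_of_mul_eq_one_left h4, inv_eq_of_mul_eq_one_left H.tt]
        exact H.not_conj H.htQ H.hv 1 (by rw [one_mul, inv_one, mul_one, h5])
      · rw [show z * (t * e) * t = z * (t * (e * t)) by group, ← H.te, ← mul_assoc t t e, H.tt,
          one_mul] at h3
        exact S.z_ne (mul_eq_right.1 h3.symm)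
  obtain ⟨eFi⟩ := hchar d (orderOf_eq_prime (by rw [pow_two, hd2]) hd1) hqd K hK eQ hnwc
  haveI hsFi : IsSimpleGroup Cfsg.Spor.Fi22 := Cfsg.Agent.H45.Fi22Top.isSimple
  haveI : Finite Cfsg.Spor.Fi22 := Finite.of_equiv _ eFi.toEquiv
  haveI : Nontrivial ↥Kb := ⟨⟨d, 1, hd1⟩⟩
  haveI hsK : IsSimpleGroup ↥Kb :=
    IsSimpleGroup.isSimpleGroup_of_surjective eFi.symm.toMonoidHom eFi.symm.surjective
  have hnab : center ↥Kb = ⊥ := by
    rcases IsSimpleGroup.eq_bot_or_eq_top_of_normal (center ↥Kb) inferInstance with h | h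
    · exact h
    · exfalso
      have hbot : commutator ↥(centralizer ({d} : Set ↥Kb)) = ⊥ := by
        rw [commutator_def, Subgroup.commutator_eq_bot_iff_le_centralizer]
        intro x _
        rw [mem_centralizer_iff]
        intro y _
        exact Subtype.ext (mem_center_iff.1 (h ▸ mem_top (x : ↥Kb)) (y : ↥Kb))
      have := hqd.1.commutator_eq_top
      rw [hbot] at this
      have hmem : (⟨d, mem_centralizer_singleton_iff.2 rfl⟩ : ↥(centralizer ({d} : Set ↥Kb))) ∈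
          (⊥ : Subgroup ↥(centralizer ({d} : Set ↥Kb))) := this ▸ mem_top _
      exact hd1 (congrArg (fun y : ↥(centralizer ({d} : Set ↥Kb)) => (y : ↥Kb)) (mem_bot.1 hmem))
  let r : ↥K0 →* ↥Kb := mk.subgroupMap K0
  have hr : Function.Surjective r := mk.subgroupMap_surjective K0
  have hperf : Group.IsPerfect ↥K0 := by
    refine ⟨eq_top_iff.2 fun x _ => ?_⟩
    have hm : (commutator ↥K0).map r = ⊤ := by
      have h1 : (commutator ↥K0).map r = commutator ↥Kb := by
        rw [commutator_def, Subgroup.map_commutator, Subgroup.map_top_of_surjective r hr,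
          ← commutator_def]
      rw [h1]
      rcases IsSimpleGroup.eq_bot_or_eq_top_of_normal (commutator ↥Kb) inferInstance with h | h
      · exfalso
        rw [commutator_def, Subgroup.commutator_eq_bot_iff_le_centralizer] at h
        have hc : (d : ↥Kb) ∈ center ↥Kb := mem_center_iff.2 fun y =>
          mem_centralizer_iff.1 (h (mem_top d)) y (mem_top y)
        rw [hnab, mem_bot] at hc
        exact hd1 hc
      · exact h
    obtain ⟨y, hy, hyx⟩ : r x ∈ (commutator ↥K0).map r := hm ▸ mem_top _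
    have htmem : (⟨tC, htK⟩ : ↥K0) ∈ commutator ↥K0 := by
      have hle : (CE t e).map (MonoidHom.id G) ≤ CT t := by rw [Subgroup.map_id]; exact H.CE_le
      let j : ↥(CE t e) →* ↥K0 := MonoidHom.mk'
        (fun x => ⟨Subgroup.inclusion H.CE_le x, hf1 _ (mem_CE.1 x.2).2⟩) fun x y => rfl
      have ht : (⟨t, mem_CE.2 ⟨rfl, H.te⟩⟩ : ↥(CE t e)) ∈ commutator ↥(CE t e) :=
        h6.qs.1.commutator_eq_top ▸ mem_top _
      have := mem_map_of_mem j ht
      rw [commutator_def, Subgroup.map_commutator] at this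
      exact Subgroup.commutator_mono le_top le_top this
    rcases (mk_eq (y : ↥(CT t)) (x : ↥(CT t))).1 (congrArg Subtype.val hyx) with h | h
    · rwa [show x = y from Subtype.ext (Subtype.ext h)]
    · rw [show x = y * ⟨tC, htK⟩ from Subtype.ext (Subtype.ext h)]
      exact mul_mem hy htmem
  have hrker : r.ker = center ↥K0 := by
    ext x
    constructor
    · intro hx
      have h1 : mk (x : ↥(CT t)) = 1 := congrArg Subtype.val hx
      have h2 : (x : ↥(CT t)) ∈ Tn := (QuotientGroup.eq_one_iff _).1 h1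
      rw [mem_center_iff]
      intro y
      apply Subtype.ext; apply Subtype.ext
      show ((y : ↥(CT t)) : G) * (x : ↥(CT t)) = (x : ↥(CT t)) * (y : ↥(CT t))
      rcases (hTn _).1 h2 with h | h <;> rw [h]
      · simp
      · exact mem_CT.1 (y : ↥(CT t)).2
    · intro hx
      rw [MonoidHom.mem_ker, ← mem_bot, ← hnab, mem_center_iff]
      intro y
      obtain ⟨y', rfl⟩ := hr y
      rw [← map_mul, ← map_mul, mem_center_iff.1 hx y']
  let eK : ↥K0 ⧸ center ↥K0 ≃* Cfsg.Spor.Fi22 :=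
    (QuotientGroup.quotientMulEquivOfEq hrker.symm).trans
      ((QuotientGroup.quotientKerEquivOfSurjective r hr).trans eFi)
  haveI : Nontrivial (↥K0 ⧸ center ↥K0) := eK.toEquiv.nontrivial
  have hqK : Cfsg.IsQuasisimple ↥K0 :=
    ⟨hperf, IsSimpleGroup.isSimpleGroup_of_surjective eK.symm.toMonoidHom eK.symm.surjective⟩
  have hC : centralizer (K0 : Set ↥(CT t)) ≤ K0 := fun x hx =>
    hf1 x (congrArg Subtype.val (mem_centralizer_iff.1 hx eC heK)).symm
  have hgf := H28.PairCent.genFitting_eq_of_quasisimple K0 hqK hC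
  rw [hgf]
  refine ⟨hqK, hidx, ⟨mem_CT.2 rfl, htK⟩, ?_⟩
  have hZ : (center ↥K0).map K0.subtype = Tn := by
    ext x
    constructor
    · rintro ⟨y, hy, rfl⟩
      rw [SetLike.mem_coe, ← hrker, MonoidHom.mem_ker] at hy
      exact (QuotientGroup.eq_one_iff _).1 (congrArg Subtype.val hy)
    · intro hx
      refine ⟨⟨x, hTK hx⟩, ?_, rfl⟩
      rw [SetLike.mem_coe, ← hrker, MonoidHom.mem_ker]
      exact Subtype.ext ((QuotientGroup.eq_one_iff _).2 hx)
  have hcFi : center Cfsg.Spor.Fi22 = ⊥ := by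
    rw [eq_bot_iff]
    intro x hx
    have : eFi.symm x ∈ center ↥Kb := mem_center_iff.2 fun y => by
      apply eFi.injective
      rw [map_mul, map_mul, eFi.apply_symm_apply, mem_center_iff.1 hx]
    rw [hnab, mem_bot] at this
    rw [mem_bot, ← eFi.apply_symm_apply x, this, map_one]
  exact H28.PairCent.quot_aut K0 Tn hTK hperf hZ hC hidx eK hcFi
    Cfsg.Agent.H46.Fi22Out.out_card

end Cfsg.Agent.H18.LFiFi22
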