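import Cfsg.Agent.H18.LFiFi22.CoreModel
import Cfsg.Agent.H18.LFiFi22.Main
import Cfsg.Agent.H49.USix.Setup

/-!
Large Fischer type: the centraliser of a line modulo the four-group, with the action of the
centraliser of `z` on the four-dimensional space.
-/

set_option autoImplicit false
set_option maxRecDepth 4000

namespace Cfsg.Agent.H18.LFiFi22

open Subgroup Cfsg.Agent.H41.SUSix Cfsg.Agent.H41.LFi
open Cfsg.Agent.H92.ExtraForm (zp zp_inj)
open Cfsg.Agent.H43.LFi (vec_add_self)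
open Cfsg.Agent.Unitary (ap_add ap_smul ap_mul ap_ext)
open Cfsg.Agent.H49.USix (W4)

variable {G : Type*} [Group G] [Finite G] {z : G} {Q : Subgroup G}
variable {S : LSetup z Q} {t e : G}

/-- The four-group, in the centraliser of the line. -/
def quadN (H : Line S t e) : Subgroup ↥(CE t e) where
  carrier := {x | (x : G) = 1 ∨ (x : G) = t ∨ (x : G) = e ∨ (x : G) = t * e}
  one_mem' := Or.inl rfl
  mul_mem' {x y} hx hy := by
    have e1 : ∀ w : G, t * (t * w) = w := fun w => by rw [← mul_assoc, H.tt, one_mul]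
    have e2 : ∀ w : G, e * (e * w) = w := fun w => by rw [← mul_assoc, H.ee, one_mul]
    have e3 : e * t = t * e := H.te.symm
    have e4 : ∀ w : G, e * (t * w) = t * (e * w) := fun w => by rw [← mul_assoc, e3, mul_assoc]
    show (x : G) * (y : G) = 1 ∨ (x : G) * (y : G) = t ∨ (x : G) * (y : G) = e ∨
      (x : G) * (y : G) = t * e
    rcases hx with hx | hx | hx | hx <;> rcases hy with hy | hy | hy | hy <;> rw [hx, hy] <;>
      simp [mul_assoc, H.tt, H.ee, e1, e2, e3, e4]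
  inv_mem' {x} hx := by
    have ht : t⁻¹ = t := inv_eq_of_mul_eq_one_right H.tt
    have he : e⁻¹ = e := inv_eq_of_mul_eq_one_right H.ee
    show (x : G)⁻¹ = 1 ∨ (x : G)⁻¹ = t ∨ (x : G)⁻¹ = e ∨ (x : G)⁻¹ = t * e
    rcases hx with hx | hx | hx | hx <;> rw [hx] <;>
      simp [mul_inv_rev, ht, he, H.te.symm]

theorem quadN_cases (H : Line S t e) {x : ↥(CE t e)} :
    x ∈ quadN H ↔ ((x : G) = 1 ∨ (x : G) = t ∨ (x : G) = e ∨ (x : G) = t * e) := Iff.rfl

instance quadN_normal (H : Line S t e) : (quadN H).Normal := by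
  refine ⟨fun n hn x => ?_⟩
  obtain ⟨hxt, hxe⟩ := mem_CE.1 x.2
  have hc : Commute (x : G) (n : G) := by
    rcases hn with h | h | h | h <;> rw [h]
    exacts [Commute.one_right _, hxt, hxe, (show Commute (x : G) t from hxt).mul_right hxe]
  have he : x * n * x⁻¹ = n := Subtype.ext (by
    show (x : G) * n * (x : G)⁻¹ = n
    rw [hc.eq, mul_inv_cancel_right])
  rw [he]
  exact hn

namespace Line

variable (H : Line S t e)
include H

theorem z_mem_CE : z ∈ CE t e := mem_CE.2 ⟨H.tz.symm, H.ez.symm⟩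

theorem quadN_facts {x : ↥(CE t e)} (hx : x ∈ quadN H) :
    (x : G) ∈ Q ∧ ∃ c : K4, S.π (x : G) = c • S.π t := by
  rcases hx with h | h | h | h <;> rw [h]
  · exact ⟨Q.one_mem, 0, by rw [S.π_one, zero_smul]⟩
  · exact ⟨H.htQ, 1, (one_smul _ _).symm⟩
  · exact ⟨H.heQ, ω₄, H.he⟩
  · exact ⟨mul_mem H.htQ H.heQ, ω₄ * ω₄, H.π_te⟩

theorem mem_CE_iff {q : G} (hq : q ∈ Q) : q ∈ CE t e ↔ Perp (S.π t) (S.π q) := by
  rw [mem_CE, Perp, ← H.he]
  exact ⟨fun h => ⟨(S.comm_iff H.htQ hq).1 h.1.symm, (S.comm_iff H.heQ hq).1 h.2.symm⟩,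
    fun h => ⟨((S.comm_iff H.htQ hq).2 h.1).symm, ((S.comm_iff H.heQ hq).2 h.2).symm⟩⟩

theorem conj_eq {g : G} (hg : g ∈ CE t e)
    (h : g * z * g⁻¹ = z ∨ g * z * g⁻¹ = z * t ∨ g * z * g⁻¹ = z * e ∨
      g * z * g⁻¹ = z * (t * e)) : g * z * g⁻¹ = z := by
  rcases h with h | h | h | h
  · exact h
  · exact absurd h (H.not_conj (mul_mem S.hzQ H.htQ) (by rw [S.π_zmul H.htQ]; exact H.hv) g)
  · exact absurd h (H.not_conj (mul_mem S.hzQ H.heQ) (by rw [S.π_zmul H.heQ]; exact H.hve) g)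
  · exact absurd h (H.not_conj (mul_mem S.hzQ (mul_mem H.htQ H.heQ))
      (by rw [S.π_zmul (mul_mem H.htQ H.heQ)]; exact H.cls_te) g)

theorem z_not_quad : (⟨z, H.z_mem_CE⟩ : ↥(CE t e)) ∉ quadN H := by
  have h0 : ∀ q ∈ Q, cls (S.π q) = 2 → z ≠ q := fun q hq h2 he =>
    H.not_conj hq h2 1 (by rw [one_mul, inv_one, mul_one, he])
  rintro (h | h | h | h)
  exacts [S.z_ne h, h0 t H.htQ H.hv h, h0 e H.heQ H.hve h,
    h0 _ (mul_mem H.htQ H.heQ) H.cls_te h]

/-- The elements of the centraliser of the line commuting with `z` act linearly and fix the root. -/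
theorem ρ_line {c : G} (hc : c ∈ CE t e) (hz : c * z = z * c) :
    S.ρ c ∈ Kl ∧ S.ρ c (S.π t) = S.π t := by
  obtain ⟨hct, hce⟩ := mem_CE.1 hc
  have hρt : S.ρ c (S.π t) = S.π t := by
    rw [← S.ρ_π c hz t H.htQ, hct, mul_inv_cancel_right]
  refine ⟨?_, hρt⟩
  rcases H.semi_cases hz with hk | hs
  · exact hk
  · exfalso
    have hρe : S.ρ c (ω₄ • S.π t) = ω₄ • S.π t := by
      rw [← H.he, ← S.ρ_π c hz e H.heQ, hce, mul_inv_cancel_right]
    rw [hs.smul, hρt, show tw true ω₄ = ω₄ * ω₄ from by decide +kernel, omega_sq_smul] at hρe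
    have h0 : S.π t = 0 := add_eq_right.1 hρe
    have := H.hv
    rw [h0, ((facts (0 : Vec)).2.1).2 rfl] at this
    exact absurd this (by norm_num)

/-- Every element of the model fixing the root lifts into the centraliser of the line. -/
theorem lift_stab {x : Equiv.Perm Vec} (hx : x ∈ Kl) (hxv : x (S.π t) = S.π t) :
    ∃ c ∈ CE t e, c * z = z * c ∧ S.ρ c = x := by
  obtain ⟨c, hc, ec⟩ := S.ρ_surj x hx
  obtain ⟨u, hu1, hu2, -, -⟩ := partner H.hv
  obtain ⟨b1, hb1, -, -, -⟩ := exists_dual H.hv hu2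
  obtain ⟨a, ha, rfl⟩ := S.π_surj u
  obtain ⟨b, hb, rfl⟩ := S.π_surj b1
  have hρ1 : ∀ q ∈ Q, S.ρ q = 1 := fun q hq => (S.ρ_ker q (S.le q hq)).2 hq
  have hπ : S.π (c * t * c⁻¹) = S.π t := by rw [S.ρ_π c hc t H.htQ, ec, hxv]
  obtain ⟨c', hc', ec', hct⟩ : ∃ c', c' * z = z * c' ∧ S.ρ c' = x ∧ c' * t = t * c' := by
    rcases S.π_eq H.htQ (S.norm c hc t H.htQ) hπ.symm with h | h
    · exact ⟨c, hc, ec, mul_inv_eq_iff_eq_mul.1 h⟩
    · refine ⟨b * c, S.z_comm_mul (S.le b hb) hc, ?_, mul_inv_eq_iff_eq_mul.1 ?_⟩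
      · rw [S.ρ_mul b c (S.le b hb) hc, hρ1 b hb, one_mul, ec]
      · have hbt : b * t * b⁻¹ = z * t := by
          have hcm := S.comm t H.htQ b hb
          rw [hb1, zp_one] at hcm
          rw [hcm, S.le _ (mul_mem H.htQ hb), mul_assoc, mul_inv_cancel_right]
        calc b * c * t * (b * c)⁻¹ = b * (c * t * c⁻¹) * b⁻¹ := by group
          _ = (b * z) * t * b⁻¹ := by rw [h]; group
          _ = z * (b * t * b⁻¹) := by rw [S.le b hb]; group
          _ = t := by rw [hbt, ← mul_assoc, S.z_sq, one_mul]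
  have hρe : S.π (c' * e * c'⁻¹) = S.π e := by
    rw [S.ρ_π c' hc' e H.heQ, ec', H.he, ← omega_Kl hx, hxv]
  have hae : a * e * a⁻¹ = z * e := by
    have hcm := S.comm e H.heQ a ha
    rw [H.he, hu2, zp_one] at hcm
    rw [hcm, S.le _ (mul_mem H.heQ ha), mul_assoc, mul_inv_cancel_right]
  rcases S.π_eq H.heQ (S.norm c' hc' e H.heQ) hρe.symm with h | h
  · exact ⟨c', mem_CE.2 ⟨hct, mul_inv_eq_iff_eq_mul.1 h⟩, hc', ec'⟩
  · have hat : a * t = t * a := ((S.comm_iff H.htQ ha).2 hu1).symm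
    refine ⟨a * c', mem_CE.2 ⟨?_, mul_inv_eq_iff_eq_mul.1 ?_⟩, S.z_comm_mul (S.le a ha) hc', ?_⟩
    · exact ((show Commute a t from hat).mul_left hct).eq
    · calc a * c' * e * (a * c')⁻¹ = a * (c' * e * c'⁻¹) * a⁻¹ := by group
        _ = (a * z) * e * a⁻¹ := by rw [h]; group
        _ = z * (a * e * a⁻¹) := by rw [S.le a ha]; group
        _ = e := by rw [hae, ← mul_assoc, S.z_sq, one_mul]
    · rw [S.ρ_mul a c' (S.le a ha) hc', hρ1 a ha, one_mul, ec']

end Line

/-- The quotient of the centraliser of the line by the four-group. -/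
abbrev LineQuot (H : Line S t e) := ↥(CE t e) ⧸ quadN H

/-- The image of `z`. -/
noncomputable def zBar (H : Line S t e) : LineQuot H :=
  QuotientGroup.mk' (quadN H) ⟨z, H.z_mem_CE⟩

/-- The image of the core. -/
noncomputable def qBar (H : Line S t e) : Subgroup (LineQuot H) :=
  (Q.subgroupOf (CE t e)).map (QuotientGroup.mk' (quadN H))

theorem mem_qBar (H : Line S t e) (c : ↥(CE t e)) :
    QuotientGroup.mk' (quadN H) c ∈ qBar H ↔ (c : G) ∈ Q := by
  constructor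
  · rintro ⟨q, hq, h⟩
    have hm : q⁻¹ * c ∈ quadN H := QuotientGroup.eq.1 h
    have := mul_mem (mem_subgroupOf.1 hq) (H.quadN_facts hm).1
    rwa [← Subgroup.coe_mul, mul_inv_cancel_left] at this
  · exact fun h => ⟨c, mem_subgroupOf.2 h, rfl⟩

theorem quot_comm_z (H : Line S t e) (x : LineQuot H) :
    x * zBar H = zBar H * x ↔
      ∃ c : ↥(CE t e), (c : G) * z = z * c ∧ QuotientGroup.mk' (quadN H) c = x := by
  constructor
  · intro h
    obtain ⟨c, rfl⟩ := QuotientGroup.mk'_surjective (quadN H) x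
    refine ⟨c, ?_, rfl⟩
    rw [zBar, ← map_mul, ← map_mul] at h
    have hm := QuotientGroup.eq.1 h.symm
    set Z : ↥(CE t e) := ⟨z, H.z_mem_CE⟩ with hZ
    have hq : ((Z * c)⁻¹ * (c * Z) : ↥(CE t e)) ∈ quadN H := hm
    have hzc : (c : G) * z * (c : G)⁻¹ = z * (((Z * c)⁻¹ * (c * Z) : ↥(CE t e)) : G) := by
      obtain ⟨hnQ, -⟩ := H.quadN_facts hq
      set n : G := (((Z * c)⁻¹ * (c * Z) : ↥(CE t e)) : G) with hn
      have hcn : (c : G) * n = n * (c : G) := by
        obtain ⟨hxt, hxe⟩ := mem_CE.1 c.2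
        have hc' : Commute (c : G) n := by
          rcases hq with h | h | h | h <;> rw [hn, h]
          exacts [Commute.one_right _, hxt, hxe, (show Commute (c : G) t from hxt).mul_right hxe]
        exact hc'.eq
      have he : (c : G) * z = z * (c : G) * n := by
        rw [hn]; push_cast [hZ]; group
      rw [he, mul_assoc z, hcn, ← mul_assoc, mul_inv_cancel_right]
    have := H.conj_eq c.2 (by
      rcases hq with h | h | h | h <;> rw [h] at hzc
      · exact Or.inl (by rwa [mul_one] at hzc)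
      · exact Or.inr (Or.inl hzc)
      · exact Or.inr (Or.inr (Or.inl hzc))
      · exact Or.inr (Or.inr (Or.inr hzc)))
    exact mul_inv_eq_iff_eq_mul.1 this
  · rintro ⟨c, hc, rfl⟩
    rw [zBar, ← map_mul, ← map_mul]
    exact congrArg _ (Subtype.ext hc)

/-- The action on the coordinates. -/
noncomputable def sigFun (_H : Line S t e) {k : Equiv.Perm Vec} (_hk : k ∈ Kl)
    (_hv : k r5 = S.π t) (c : G) (w : W4) : W4 := lam k (S.ρ c (sect k w))

section Maps

variable (H : Line S t e) {k : Equiv.Perm Vec} (hk : k ∈ Kl) (hv : k r5 = S.π t)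
include H hk hv

theorem perp_ρ {c : G} (hc : c ∈ CE t e) (hz : c * z = z * c) {u : Vec} (hu : Perp (S.π t) u) :
    Perp (S.π t) (S.ρ c u) := by
  obtain ⟨hK, hρ⟩ := H.ρ_line hc hz
  constructor
  · conv_lhs => rw [← hρ]
    rw [pol_Kl hK]; exact hu.1
  · conv_lhs => rw [← hρ, omega_Kl hK]
    rw [pol_Kl hK]; exact hu.2

theorem lam_ρ {c : G} (hc : c ∈ CE t e) (hz : c * z = z * c) {u : Vec} (hu : Perp (S.π t) u) :
    lam k (S.ρ c u) = sigFun H hk hv c (lam k u) := by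
  obtain ⟨hK, hρ⟩ := H.ρ_line hc hz
  obtain ⟨g, hg⟩ := stab_lift hk hv hK hρ
  rw [sigFun, lam_stab hk hv hg hu, lam_stab hk hv hg (perp_sect hk hv _), lam_sect]

end Maps

/-- The homomorphism into the permutations of the coordinates. -/
noncomputable def sigHom (H : Line S t e) {k : Equiv.Perm Vec} (hk : k ∈ Kl)
    (hv : k r5 = S.π t) :
    ↥((centralizer ({z} : Set G)).subgroupOf (CE t e)) →* Equiv.Perm W4 :=
  MonoidHom.mk' (fun c =>
    { toFun := sigFun H hk hv ((c : ↥(CE t e)) : G)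
      invFun := sigFun H hk hv ((c⁻¹ : ↥((centralizer ({z} : Set G)).subgroupOf (CE t e))) : ↥(CE t e))
      left_inv := fun w => by
        have hz : ∀ d : ↥((centralizer ({z} : Set G)).subgroupOf (CE t e)),
            ((d : ↥(CE t e)) : G) * z = z * ((d : ↥(CE t e)) : G) := fun d =>
          mem_centralizer_singleton_iff.1 (mem_subgroupOf.1 d.2)
        show sigFun H hk hv _ (lam k _) = w
        rw [← lam_ρ H hk hv (c⁻¹ : ↥((centralizer ({z} : Set G)).subgroupOf (CE t e))).1.2 (hz c⁻¹)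
          (perp_ρ H hk hv c.1.2 (hz c) (perp_sect hk hv w))]
        rw [← Equiv.Perm.mul_apply, ← S.ρ_mul _ _ (hz c⁻¹) (hz c)]
        push_cast
        rw [inv_mul_cancel, S.ρ_one]
        exact lam_sect w
      right_inv := fun w => by
        have hz : ∀ d : ↥((centralizer ({z} : Set G)).subgroupOf (CE t e)),
            ((d : ↥(CE t e)) : G) * z = z * ((d : ↥(CE t e)) : G) := fun d =>
          mem_centralizer_singleton_iff.1 (mem_subgroupOf.1 d.2)
        show sigFun H hk hv _ (lam k _) = w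
        rw [← lam_ρ H hk hv c.1.2 (hz c)
          (perp_ρ H hk hv (c⁻¹ : ↥((centralizer ({z} : Set G)).subgroupOf (CE t e))).1.2 (hz c⁻¹)
            (perp_sect hk hv w))]
        rw [← Equiv.Perm.mul_apply, ← S.ρ_mul _ _ (hz c) (hz c⁻¹)]
        push_cast
        rw [mul_inv_cancel, S.ρ_one]
        exact lam_sect w })
    fun c d => by
      refine Equiv.ext fun w => ?_
      have hz : ∀ d : ↥((centralizer ({z} : Set G)).subgroupOf (CE t e)),
          ((d : ↥(CE t e)) : G) * z = z * ((d : ↥(CE t e)) : G) := fun d =>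
        mem_centralizer_singleton_iff.1 (mem_subgroupOf.1 d.2)
      show sigFun H hk hv _ w = sigFun H hk hv _ (lam k _)
      rw [← lam_ρ H hk hv c.1.2 (hz c) (perp_ρ H hk hv d.1.2 (hz d) (perp_sect hk hv w)),
        ← Equiv.Perm.mul_apply, ← S.ρ_mul _ _ (hz c) (hz d)]
      rfl

section Maps

variable (H : Line S t e) {k : Equiv.Perm Vec} (hk : k ∈ Kl) (hv : k r5 = S.π t)
include H hk hv

theorem sig_ker (c : ↥((centralizer ({z} : Set G)).subgroupOf (CE t e))) :
    sigHom H hk hv c = 1 ↔ ((c : ↥(CE t e)) : G) ∈ Q := by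
  have hz : ((c : ↥(CE t e)) : G) * z = z * ((c : ↥(CE t e)) : G) :=
    mem_centralizer_singleton_iff.1 (mem_subgroupOf.1 c.2)
  obtain ⟨hK, hρ⟩ := H.ρ_line c.1.2 hz
  rw [← S.ρ_ker _ hz]
  constructor
  · intro h
    exact eq_one_of_lam hk hv hK hρ fun w => Equiv.congr_fun h w
  · intro h
    refine Equiv.ext fun w => ?_
    show lam k (S.ρ _ (sect k w)) = w
    rw [h]
    exact lam_sect w

theorem sig_iso (c : ↥((centralizer ({z} : Set G)).subgroupOf (CE t e))) :
    H49.USix.Iso (sigHom H hk hv c) := by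
  have hz : ((c : ↥(CE t e)) : G) * z = z * ((c : ↥(CE t e)) : G) :=
    mem_centralizer_singleton_iff.1 (mem_subgroupOf.1 c.2)
  obtain ⟨hK, hρ⟩ := H.ρ_line c.1.2 hz
  obtain ⟨g, hg⟩ := stab_lift hk hv hK hρ
  have he : ∀ w, sigHom H hk hv c w = ap (toFour g) w := fun w => by
    show lam k (S.ρ _ (sect k w)) = _
    rw [lam_stab hk hv hg (perp_sect hk hv w), lam_sect]
  refine ⟨fun u w => ?_, fun a u => ?_, fun u w => ?_⟩
  · rw [he, he, he]; exact ap_add _ _ _
  · rw [he, he]; exact ap_smul _ _ _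
  · rw [he, he]; exact Unitary.herm_ap _ _ _

theorem sig_surj (g : ↥(Cfsg.SU 4 K4 2)) :
    ∃ c : ↥((centralizer ({z} : Set G)).subgroupOf (CE t e)), ∀ w, sigHom H hk hv c w = ap g w := by
  obtain ⟨x, hx, hxv, hxg⟩ := exists_stab hk hv g
  obtain ⟨c, hc, hz, ec⟩ := H.lift_stab hx hxv
  refine ⟨⟨⟨c, hc⟩, mem_subgroupOf.2 (mem_centralizer_singleton_iff.2 hz)⟩, fun w => ?_⟩
  show lam k (S.ρ c (sect k w)) = _
  rw [ec, hxg _ (perp_sect hk hv w), lam_sect]

end Maps

/-- The coordinates of an element of the quotient. -/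
noncomputable def piBar (H : Line S t e) {k : Equiv.Perm Vec} (hk : k ∈ Kl)
    (hv : k r5 = S.π t) (x : LineQuot H) : W4 :=
  open Classical in
  if h : ∃ c : ↥(CE t e), (c : G) ∈ Q ∧ QuotientGroup.mk' (quadN H) c = x then
    lam k (S.π (h.choose : G)) else 0

section Maps

variable (H : Line S t e) {k : Equiv.Perm Vec} (hk : k ∈ Kl) (hv : k r5 = S.π t)
include H hk hv

theorem piBar_mk {c : ↥(CE t e)} (hc : (c : G) ∈ Q) :
    piBar H hk hv (QuotientGroup.mk' (quadN H) c) = lam k (S.π (c : G)) := by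
  classical
  have h : ∃ d : ↥(CE t e), (d : G) ∈ Q ∧
      QuotientGroup.mk' (quadN H) d = QuotientGroup.mk' (quadN H) c := ⟨c, hc, rfl⟩
  rw [piBar, dif_pos h]
  obtain ⟨h1, h2⟩ := h.choose_spec
  obtain ⟨hnQ, a, ha⟩ := H.quadN_facts (QuotientGroup.eq.1 h2)
  have e1 : S.π (c : G) = S.π (h.choose : G) + a • S.π t := by
    rw [← ha, ← S.π_mul _ h1 _ hnQ, ← Subgroup.coe_mul, mul_inv_cancel_left]
  rw [e1, lam_add hk, lam_root hk hv, add_zero]

end Maps

/-- The action of an element of the quotient. -/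
noncomputable def rhoBar (H : Line S t e) {k : Equiv.Perm Vec} (hk : k ∈ Kl)
    (hv : k r5 = S.π t) (x : LineQuot H) : Equiv.Perm W4 :=
  open Classical in
  if h : ∃ c : ↥((centralizer ({z} : Set G)).subgroupOf (CE t e)),
      QuotientGroup.mk' (quadN H) (c : ↥(CE t e)) = x then sigHom H hk hv h.choose else 1

section Maps

variable (H : Line S t e) {k : Equiv.Perm Vec} (hk : k ∈ Kl) (hv : k r5 = S.π t)
include H hk hv

theorem rhoBar_mk (c : ↥((centralizer ({z} : Set G)).subgroupOf (CE t e))) :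
    rhoBar H hk hv (QuotientGroup.mk' (quadN H) (c : ↥(CE t e))) = sigHom H hk hv c := by
  classical
  have h : ∃ d : ↥((centralizer ({z} : Set G)).subgroupOf (CE t e)),
      QuotientGroup.mk' (quadN H) (d : ↥(CE t e)) = QuotientGroup.mk' (quadN H) (c : ↥(CE t e)) :=
    ⟨c, rfl⟩
  rw [rhoBar, dif_pos h]
  have hn : sigHom H hk hv (h.choose⁻¹ * c) = 1 :=
    (sig_ker H hk hv _).2 (by
      have := (H.quadN_facts (QuotientGroup.eq.1 h.choose_spec)).1
      simpa using this)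
  rwa [map_mul, map_inv, inv_mul_eq_one] at hn

theorem card_qBar : Nat.card ↥(qBar H) = 512 := by
  classical
  have hperp : ∀ {c : ↥(CE t e)}, (c : G) ∈ Q → Perp (S.π t) (S.π (c : G)) :=
    fun {c} hc => (H.mem_CE_iff hc).1 c.2
  let p : ↥(qBar H) →* Multiplicative W4 := MonoidHom.mk'
    (fun x => Multiplicative.ofAdd (piBar H hk hv (x : LineQuot H))) fun x y => by
      obtain ⟨_, c, hc, rfl⟩ := x
      obtain ⟨_, d, hd, rfl⟩ := y
      show Multiplicative.ofAdd (piBar H hk hv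
          (QuotientGroup.mk' (quadN H) c * QuotientGroup.mk' (quadN H) d)) = _
      rw [← map_mul, piBar_mk H hk hv (c := c * d) (mul_mem (mem_subgroupOf.1 hc) (mem_subgroupOf.1 hd)),
        ← ofAdd_add, piBar_mk H hk hv (mem_subgroupOf.1 hc), piBar_mk H hk hv (mem_subgroupOf.1 hd),
        ← lam_add hk, ← S.π_mul _ (mem_subgroupOf.1 hc) _ (mem_subgroupOf.1 hd)]
      rfl
  have hsurj : Function.Surjective p := fun w => by
    obtain ⟨q, hq, hπ⟩ := S.π_surj (sect k w.toAdd)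
    have hqC : q ∈ CE t e := (H.mem_CE_iff hq).2 (hπ ▸ perp_sect hk hv _)
    refine ⟨⟨QuotientGroup.mk' (quadN H) ⟨q, hqC⟩, (mem_qBar H _).2 hq⟩, ?_⟩
    show Multiplicative.ofAdd (piBar H hk hv _) = w
    rw [piBar_mk H hk hv (c := ⟨q, hqC⟩) hq, hπ, lam_sect]
    rfl
  have hzQ : zBar H ∈ qBar H := (mem_qBar H _).2 S.hzQ
  have hker : (p.ker : Set ↥(qBar H)) = {1, ⟨zBar H, hzQ⟩} := by
    ext ⟨x, hx⟩
    simp only [SetLike.mem_coe, MonoidHom.mem_ker, Set.mem_insert_iff, Set.mem_singleton_iff,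
      Subtype.ext_iff]
    obtain ⟨c, hc, rfl⟩ := hx
    have hcQ : (c : G) ∈ Q := mem_subgroupOf.1 hc
    show Multiplicative.ofAdd (piBar H hk hv _) = 1 ↔ _
    rw [piBar_mk H hk hv hcQ, ofAdd_eq_one]
    constructor
    · intro h
      obtain ⟨a, ha⟩ := lam_eq_zero hk hv (hperp hcQ) h
      obtain ⟨n, hn, hnπ⟩ : ∃ n : ↥(CE t e), n ∈ quadN H ∧ S.π (n : G) = a • S.π t := by
        have k4c : ∀ a : K4, a = 0 ∨ a = 1 ∨ a = ω₄ ∨ a = ω₄ * ω₄ := by decide +kernel
        rcases k4c a with rfl | rfl | rfl | rfl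
        · exact ⟨1, one_mem _, by rw [zero_smul]; exact S.π_one⟩
        · exact ⟨⟨t, mem_CE.2 ⟨rfl, H.te⟩⟩, Or.inr (Or.inl rfl), (one_smul _ _).symm⟩
        · exact ⟨⟨e, mem_CE.2 ⟨H.te.symm, rfl⟩⟩, Or.inr (Or.inr (Or.inl rfl)), H.he⟩
        · exact ⟨⟨t, mem_CE.2 ⟨rfl, H.te⟩⟩ * ⟨e, mem_CE.2 ⟨H.te.symm, rfl⟩⟩,
            Or.inr (Or.inr (Or.inr rfl)), H.π_te⟩
      have hn1 : QuotientGroup.mk' (quadN H) n = 1 := (QuotientGroup.eq_one_iff _).2 hn
      rcases S.π_eq (H.quadN_facts hn).1 hcQ (by rw [hnπ, ha]) with h' | h'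
      · left
        rw [show c = n from Subtype.ext h', hn1]
        rfl
      · right
        rw [show c = ⟨z, H.z_mem_CE⟩ * n from Subtype.ext h', map_mul, hn1, mul_one]
        rfl
    · rintro (h | h)
      · have h1 : QuotientGroup.mk' (quadN H) c = QuotientGroup.mk' (quadN H) 1 := by
          rw [map_one]; exact h
        rw [← piBar_mk H hk hv hcQ, h1, piBar_mk H hk hv (c := 1) Q.one_mem]
        rw [show ((1 : ↥(CE t e)) : G) = 1 from rfl, S.π_one, lam_zero hk]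
      · rw [← piBar_mk H hk hv hcQ, show QuotientGroup.mk' (quadN H) c = zBar H from h, zBar,
          piBar_mk H hk hv (c := ⟨z, H.z_mem_CE⟩) S.hzQ, S.π_z, lam_zero hk]
  have hne : (1 : ↥(qBar H)) ≠ ⟨zBar H, hzQ⟩ := fun h =>
    H.z_not_quad ((QuotientGroup.eq_one_iff _).1 (congrArg Subtype.val h).symm)
  have h := p.ker.card_mul_index
  rw [Subgroup.index_ker, MonoidHom.range_eq_top.2 hsurj, Subgroup.card_top,
    Nat.card_congr Multiplicative.toAdd,
    show Nat.card ↥p.ker = 2 by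
      rw [← Set.ncard_pair hne, ← hker, ← Nat.card_coe_set_eq]; rfl,
    show Nat.card W4 = 256 by
      rw [Nat.card_eq_fintype_card, Fintype.card_fun, Fintype.card_fin, H41.SUSix.hK]; norm_num] at h
  omega

theorem card_cent : Nat.card ↥(centralizer ({zBar H} : Set (LineQuot H))) = 13271040 := by
  classical
  have hmem : ∀ x : ↥(centralizer ({zBar H} : Set (LineQuot H))),
      ∃ c : ↥((centralizer ({z} : Set G)).subgroupOf (CE t e)),
        QuotientGroup.mk' (quadN H) (c : ↥(CE t e)) = (x : LineQuot H) := by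
    intro x
    obtain ⟨c, hc, he⟩ := (quot_comm_z H (x : LineQuot H)).1 (mem_centralizer_singleton_iff.1 x.2)
    exact ⟨⟨c, mem_subgroupOf.2 (mem_centralizer_singleton_iff.2 hc)⟩, he⟩
  let f : ↥(centralizer ({zBar H} : Set (LineQuot H))) →* Equiv.Perm W4 :=
    MonoidHom.mk' (fun x => rhoBar H hk hv (x : LineQuot H)) fun x y => by
      obtain ⟨c, hc⟩ := hmem x
      obtain ⟨d, hd⟩ := hmem y
      show rhoBar H hk hv ((x : LineQuot H) * (y : LineQuot H)) = _
      rw [← hc, ← hd, ← map_mul, ← Subgroup.coe_mul, rhoBar_mk, rhoBar_mk, rhoBar_mk, map_mul]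
  let A : ↥(Cfsg.SU 4 K4 2) →* Equiv.Perm W4 :=
    MonoidHom.mk' (fun g => ⟨ap g, ap g⁻¹, Unitary.ap_inv_ap g, Unitary.ap_ap_inv g⟩)
      (fun g h => Equiv.ext fun u => ap_mul g h u)
  have hA : Function.Injective A := fun g h e => ap_ext fun u => Equiv.congr_fun e u
  have hrange : f.range = A.range := by
    ext σ
    constructor
    · rintro ⟨x, rfl⟩
      obtain ⟨c, hc⟩ := hmem x
      have hz : ((c : ↥(CE t e)) : G) * z = z * ((c : ↥(CE t e)) : G) :=
        mem_centralizer_singleton_iff.1 (mem_subgroupOf.1 c.2)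
      obtain ⟨hK, hρ⟩ := H.ρ_line c.1.2 hz
      obtain ⟨g, hg⟩ := stab_lift hk hv hK hρ
      refine ⟨toFour g, Equiv.ext fun w => ?_⟩
      show ap (toFour g) w = rhoBar H hk hv (x : LineQuot H) w
      rw [← hc, rhoBar_mk]
      show _ = lam k (S.ρ _ (sect k w))
      rw [lam_stab hk hv hg (perp_sect hk hv w), lam_sect]
    · rintro ⟨g, rfl⟩
      obtain ⟨c, hc⟩ := sig_surj H hk hv g
      have hcz : QuotientGroup.mk' (quadN H) (c : ↥(CE t e)) ∈
          centralizer ({zBar H} : Set (LineQuot H)) :=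
        mem_centralizer_singleton_iff.2 ((quot_comm_z H _).2
          ⟨c, mem_centralizer_singleton_iff.1 (mem_subgroupOf.1 c.2), rfl⟩)
      refine ⟨⟨_, hcz⟩, Equiv.ext fun w => ?_⟩
      show rhoBar H hk hv _ w = ap g w
      rw [rhoBar_mk, hc]
  have hker : f.ker = (qBar H).subgroupOf (centralizer ({zBar H} : Set (LineQuot H))) := by
    ext x
    obtain ⟨c, hc⟩ := hmem x
    rw [MonoidHom.mem_ker, mem_subgroupOf]
    show rhoBar H hk hv (x : LineQuot H) = 1 ↔ _
    rw [← hc, rhoBar_mk, sig_ker, mem_qBar]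
  have hle : qBar H ≤ centralizer ({zBar H} : Set (LineQuot H)) := by
    rintro _ ⟨c, hc, rfl⟩
    exact mem_centralizer_singleton_iff.2 ((quot_comm_z H _).2
      ⟨c, S.le _ (mem_subgroupOf.1 hc), rfl⟩)
  have h := f.ker.card_mul_index
  rw [Subgroup.index_ker, hrange, ← Nat.card_congr (MonoidHom.ofInjective hA).toEquiv,
    card_SU_four, hker, Nat.card_congr (Subgroup.subgroupOfEquivOfLe hle).toEquiv,
    card_qBar H hk hv] at h
  omega

end Maps

/-- The centraliser of `z` modulo the four-group. -/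
noncomputable def lineCore (H : Line S t e) {k : Equiv.Perm Vec} (hk : k ∈ Kl)
    (hv : k r5 = S.π t) : H49.USix.Core (zBar H) (qBar H) where
  z_sq := by
    rw [zBar, ← map_mul, ← map_one (QuotientGroup.mk' (quadN H))]
    exact congrArg _ (Subtype.ext S.z_sq)
  z_ne := fun h => H.z_not_quad ((QuotientGroup.eq_one_iff _).1 h)
  hzQ := (mem_qBar H _).2 S.hzQ
  le := by
    rintro _ ⟨c, hc, rfl⟩
    exact (quot_comm_z H _).2 ⟨c, S.le _ (mem_subgroupOf.1 hc), rfl⟩
  norm := by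
    intro x hx y hy
    obtain ⟨c, hc, rfl⟩ := (quot_comm_z H x).1 hx
    obtain ⟨d, hd, rfl⟩ := hy
    rw [← map_inv, ← map_mul, ← map_mul]
    exact (mem_qBar H _).2 (S.norm _ hc _ (mem_subgroupOf.1 hd))
  π := piBar H hk hv
  π_mul := by
    rintro _ ⟨a, ha, rfl⟩ _ ⟨b, hb, rfl⟩
    rw [← map_mul, piBar_mk H hk hv (c := a * b) (mul_mem (mem_subgroupOf.1 ha) (mem_subgroupOf.1 hb)),
      piBar_mk H hk hv (mem_subgroupOf.1 ha), piBar_mk H hk hv (mem_subgroupOf.1 hb),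
      ← lam_add hk, ← S.π_mul _ (mem_subgroupOf.1 ha) _ (mem_subgroupOf.1 hb)]
    rfl
  π_surj := fun w => by
    obtain ⟨q, hq, hπ⟩ := S.π_surj (sect k w)
    have hqC : q ∈ CE t e := (H.mem_CE_iff hq).2 (hπ ▸ perp_sect hk hv _)
    exact ⟨_, (mem_qBar H ⟨q, hqC⟩).2 hq, by
      rw [piBar_mk H hk hv (c := ⟨q, hqC⟩) hq, hπ, lam_sect]⟩
  π_zero := by
    rintro _ ⟨c, hc, rfl⟩
    have hcQ : (c : G) ∈ Q := mem_subgroupOf.1 hc
    rw [piBar_mk H hk hv hcQ]
    constructor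
    · intro h
      obtain ⟨a, ha⟩ := lam_eq_zero hk hv ((H.mem_CE_iff hcQ).1 c.2) h
      obtain ⟨n, hn, hnπ⟩ : ∃ n : ↥(CE t e), n ∈ quadN H ∧ S.π (n : G) = a • S.π t := by
        have k4c : ∀ a : K4, a = 0 ∨ a = 1 ∨ a = ω₄ ∨ a = ω₄ * ω₄ := by decide +kernel
        rcases k4c a with rfl | rfl | rfl | rfl
        · exact ⟨1, one_mem _, by rw [zero_smul]; exact S.π_one⟩
        · exact ⟨⟨t, mem_CE.2 ⟨rfl, H.te⟩⟩, Or.inr (Or.inl rfl), (one_smul _ _).symm⟩
        · exact ⟨⟨e, mem_CE.2 ⟨H.te.symm, rfl⟩⟩, Or.inr (Or.inr (Or.inl rfl)), H.he⟩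
        · exact ⟨⟨t, mem_CE.2 ⟨rfl, H.te⟩⟩ * ⟨e, mem_CE.2 ⟨H.te.symm, rfl⟩⟩,
            Or.inr (Or.inr (Or.inr rfl)), H.π_te⟩
      have hn1 : QuotientGroup.mk' (quadN H) n = 1 := (QuotientGroup.eq_one_iff _).2 hn
      rcases S.π_eq (H.quadN_facts hn).1 hcQ (by rw [hnπ, ha]) with h' | h'
      · left
        rw [show c = n from Subtype.ext h', hn1]
      · right
        rw [show c = ⟨z, H.z_mem_CE⟩ * n from Subtype.ext h', map_mul, hn1, mul_one]
        rfl
    · rintro (h | h)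
      · rw [← piBar_mk H hk hv hcQ, h, ← map_one (QuotientGroup.mk' (quadN H)),
          piBar_mk H hk hv (c := 1) Q.one_mem]
        rw [show ((1 : ↥(CE t e)) : G) = 1 from rfl, S.π_one, lam_zero hk]
      · rw [← piBar_mk H hk hv hcQ, h, zBar, piBar_mk H hk hv (c := ⟨z, H.z_mem_CE⟩) S.hzQ, S.π_z,
          lam_zero hk]
  sq := by
    rintro _ ⟨c, hc, rfl⟩
    have hcQ : (c : G) ∈ Q := mem_subgroupOf.1 hc
    rw [piBar_mk H hk hv hcQ, ← wt_lam hk hv ((H.mem_CE_iff hcQ).1 c.2), ← map_mul]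
    have h := S.sq _ hcQ
    unfold zp at h ⊢
    split_ifs at h ⊢ with h0
    · rw [← map_one (QuotientGroup.mk' (quadN H))]
      exact congrArg _ (Subtype.ext h)
    · exact congrArg _ (Subtype.ext h)
  comm := by
    rintro _ ⟨a, ha, rfl⟩ _ ⟨b, hb, rfl⟩
    have haQ : (a : G) ∈ Q := mem_subgroupOf.1 ha
    have hbQ : (b : G) ∈ Q := mem_subgroupOf.1 hb
    rw [piBar_mk H hk hv haQ, piBar_mk H hk hv hbQ,
      ← pol_lam hk hv ((H.mem_CE_iff haQ).1 a.2) ((H.mem_CE_iff hbQ).1 b.2), ← map_mul, ← map_mul]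
    have h := S.comm _ haQ _ hbQ
    unfold zp at h ⊢
    split_ifs at h ⊢ with h0
    · rw [mul_one] at h ⊢
      exact congrArg _ (Subtype.ext h)
    · rw [zBar, ← map_mul]
      exact congrArg _ (Subtype.ext h)
  ρ := rhoBar H hk hv
  ρ_mul := by
    intro x y hx hy
    obtain ⟨c, hc, rfl⟩ := (quot_comm_z H x).1 hx
    obtain ⟨d, hd, rfl⟩ := (quot_comm_z H y).1 hy
    let cz : ↥((centralizer ({z} : Set G)).subgroupOf (CE t e)) :=
      ⟨c, mem_subgroupOf.2 (mem_centralizer_singleton_iff.2 hc)⟩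
    let dz : ↥((centralizer ({z} : Set G)).subgroupOf (CE t e)) :=
      ⟨d, mem_subgroupOf.2 (mem_centralizer_singleton_iff.2 hd)⟩
    rw [← map_mul]
    show rhoBar H hk hv (QuotientGroup.mk' (quadN H) (Subtype.val (cz * dz))) =
      rhoBar H hk hv (QuotientGroup.mk' (quadN H) (Subtype.val cz)) *
        rhoBar H hk hv (QuotientGroup.mk' (quadN H) (Subtype.val dz))
    rw [rhoBar_mk, rhoBar_mk, rhoBar_mk, map_mul]
  ρ_π := by
    intro x hx y hy
    obtain ⟨c, hc, rfl⟩ := (quot_comm_z H x).1 hx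
    obtain ⟨d, hd, rfl⟩ := hy
    have hdQ : (d : G) ∈ Q := mem_subgroupOf.1 hd
    let cz : ↥((centralizer ({z} : Set G)).subgroupOf (CE t e)) :=
      ⟨c, mem_subgroupOf.2 (mem_centralizer_singleton_iff.2 hc)⟩
    rw [← map_inv, ← map_mul, ← map_mul,
      piBar_mk H hk hv (c := c * d * c⁻¹) (S.norm _ hc _ hdQ), piBar_mk H hk hv hdQ,
      show c = (cz : ↥(CE t e)) from rfl, rhoBar_mk]
    show lam k (S.π ((c : G) * (d : G) * (c : G)⁻¹)) = sigFun H hk hv (c : G) _
    rw [S.ρ_π _ hc _ hdQ, lam_ρ H hk hv c.2 hc ((H.mem_CE_iff hdQ).1 d.2)]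
  ρ_ker := by
    intro x hx
    obtain ⟨c, hc, rfl⟩ := (quot_comm_z H x).1 hx
    rw [show c = ((⟨c, mem_subgroupOf.2 (mem_centralizer_singleton_iff.2 hc)⟩ :
      ↥((centralizer ({z} : Set G)).subgroupOf (CE t e))) : ↥(CE t e)) from rfl, rhoBar_mk, sig_ker,
      mem_qBar]
  ρ_iso := by
    intro x hx
    obtain ⟨c, hc, rfl⟩ := (quot_comm_z H x).1 hx
    rw [show c = ((⟨c, mem_subgroupOf.2 (mem_centralizer_singleton_iff.2 hc)⟩ :
      ↥((centralizer ({z} : Set G)).subgroupOf (CE t e))) : ↥(CE t e)) from rfl, rhoBar_mk]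
    exact sig_iso H hk hv _
  ρ_surj := by
    intro g
    obtain ⟨c, hc⟩ := sig_surj H hk hv g
    exact ⟨_, (quot_comm_z H _).2
      ⟨c, mem_centralizer_singleton_iff.1 (mem_subgroupOf.1 c.2), rfl⟩, fun w => by
        rw [rhoBar_mk]; exact hc w⟩
  card_C := card_cent H hk hv

/-- The centraliser of the line is quasisimple, given its quotient. -/
theorem six_of_quot {G : Type*} [Group G] [Finite G] {z : G} {Q : Subgroup G} {S : LSetup z Q}
    {t e : G} (H : Line S t e) (F : Type) [Field F] [Fintype F] (hF : Fintype.card F = 4)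
    (φ : LineQuot H ≃* Cfsg.PSU 6 F 2) : Six t e := by
  haveI : IsSimpleGroup (Cfsg.PSU 6 F 2) :=
    Cfsg.Agent.Unitary.isSimpleGroup_PSU (by rw [hF]; rfl) (by norm_num) (by norm_num)
  let f : ↥(CE t e) →* Cfsg.PSU 6 F 2 := φ.toMonoidHom.comp (QuotientGroup.mk' (quadN H))
  have hf : Function.Surjective f := φ.surjective.comp (QuotientGroup.mk'_surjective _)
  have hker : ∀ x : ↥(CE t e), f x = 1 ↔
      ((x : G) = 1 ∨ (x : G) = t ∨ (x : G) = e ∨ (x : G) = t * e) := by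
    intro x
    show φ (QuotientGroup.mk' (quadN H) x) = 1 ↔ _
    rw [MulEquiv.map_eq_one_iff, QuotientGroup.mk'_apply, QuotientGroup.eq_one_iff]
    rfl
  haveI hsK : IsSimpleGroup (LineQuot H) :=
    haveI : Nontrivial (LineQuot H) := φ.toEquiv.nontrivial
    IsSimpleGroup.isSimpleGroup_of_surjective φ.symm.toMonoidHom φ.symm.surjective
  let C' := commutator ↥(CE t e)
  let mk := QuotientGroup.mk' (quadN H)
  obtain ⟨x, hx, hxv, u, hu, hsum⟩ := exists_shear H.hv
  obtain ⟨c, hc, hcz, ec⟩ := H.lift_stab hx hxv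
  have hcomm : ∀ (a b : ↥(CE t e)), a * b * a⁻¹ * b⁻¹ ∈ C' := fun a b => by
    have h := Subgroup.commutator_mem_commutator (mem_top a) (mem_top b)
    rw [commutatorElement_def] at h
    exact h
  have hlift : ∀ u, Perp (S.π t) u → ∃ q : ↥(CE t e), (q : G) ∈ Q ∧ S.π (q : G) = u := fun u hu => by
    obtain ⟨q, hq, rfl⟩ := S.π_surj u
    exact ⟨⟨q, (H.mem_CE_iff hq).2 hu⟩, hq, rfl⟩
  obtain ⟨k, hk, hv⟩ := root_exists H.hv
  -- `z` is a commutator
  have hzC : (⟨z, H.z_mem_CE⟩ : ↥(CE t e)) ∈ C' := by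
    obtain ⟨w, hw1, hw2⟩ : ∃ w1 w2 : W4, H49.USix.pol4 w1 w2 = 1 :=
      ⟨![1, 0, 0, 0], ![ω₄, 0, 0, 0], by decide +kernel⟩
    obtain ⟨q1, hq1, e1⟩ := hlift _ (perp_sect hk hv w)
    obtain ⟨q2, hq2, e2⟩ := hlift _ (perp_sect hk hv hw1)
    have hp : pol (S.π (q2 : G)) (S.π (q1 : G)) = 1 := by
      rw [e1, e2, pol_symm, pol_lam hk hv (perp_sect hk hv _) (perp_sect hk hv _), lam_sect, lam_sect]
      exact hw2
    have h := hcomm q1 q2
    have he : q1 * q2 * q1⁻¹ * q2⁻¹ = (⟨z, H.z_mem_CE⟩ : ↥(CE t e)) := Subtype.ext (by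
      show (q1 : G) * q2 * (q1 : G)⁻¹ * (q2 : G)⁻¹ = z
      have hcm := S.comm _ hq2 _ hq1
      rw [hp, zp_one] at hcm
      rw [hcm, S.le _ (mul_mem hq2 hq1)]
      group)
    rwa [he] at h
  -- the members of the four-group are commutators
  have hmem : ∀ (n : ↥(CE t e)), (n : G) ∈ Q → ∀ u, Perp (S.π t) u →
      S.ρ c u + u = S.π (n : G) → n ∈ C' := by
    intro n hn u hu he
    obtain ⟨q, hq, hqπ⟩ := hlift u hu
    have hnq := S.norm c hcz _ hq
    have hm : c * (q : G) * c⁻¹ * (q : G)⁻¹ ∈ Q := mul_mem hnq (inv_mem hq)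
    have hπ : S.π (c * (q : G) * c⁻¹ * (q : G)⁻¹) = S.π (n : G) := by
      rw [S.π_mul _ hnq _ (inv_mem hq), S.ρ_π c hcz _ hq, S.π_inv hq, hqπ, he]
    have h := hcomm ⟨c, hc⟩ q
    rcases S.π_eq hm hn hπ with h' | h'
    · rwa [show (⟨c, hc⟩ : ↥(CE t e)) * q * ⟨c, hc⟩⁻¹ * q⁻¹ = n from Subtype.ext h'.symm] at h
    · have h2 := mul_mem hzC h
      rwa [show (⟨z, H.z_mem_CE⟩ : ↥(CE t e)) * (⟨c, hc⟩ * q * ⟨c, hc⟩⁻¹ * q⁻¹) = n from
        Subtype.ext h'.symm] at h2
  have htC : (⟨t, mem_CE.2 ⟨rfl, H.te⟩⟩ : ↥(CE t e)) ∈ C' :=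
    hmem _ H.htQ u hu (by rw [ec, hsum])
  have heC : (⟨e, mem_CE.2 ⟨H.te.symm, rfl⟩⟩ : ↥(CE t e)) ∈ C' := by
    refine hmem _ H.heQ (ω₄ • u) ⟨?_, ?_⟩ ?_
    · rw [pol_omega, hu.1, hu.2, add_zero]
    · rw [pol_omega, hu.2, ← mul_smul, omega_sq_smul, pol_add_left, hu.1, hu.2]; rfl
    · rw [ec, ← omega_Kl hx, ← smul_add, hsum, ← H.he]
  have hNC : quadN H ≤ C' := by
    intro n hn
    rcases (quadN_cases H).1 hn with h | h | h | h
    · rw [show n = 1 from Subtype.ext h]; exact one_mem _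
    · rw [show n = ⟨t, mem_CE.2 ⟨rfl, H.te⟩⟩ from Subtype.ext h]; exact htC
    · rw [show n = ⟨e, mem_CE.2 ⟨H.te.symm, rfl⟩⟩ from Subtype.ext h]; exact heC
    · rw [show n = ⟨t, mem_CE.2 ⟨rfl, H.te⟩⟩ * ⟨e, mem_CE.2 ⟨H.te.symm, rfl⟩⟩ from Subtype.ext h]
      exact mul_mem htC heC
  have htop : C'.map mk = ⊤ := by
    haveI : (C'.map mk).Normal := Subgroup.Normal.map inferInstance mk (QuotientGroup.mk'_surjective _)
    refine (IsSimpleGroup.eq_bot_or_eq_top_of_normal _ inferInstance).resolve_left fun h => ?_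
    have hm : mk ⟨z, H.z_mem_CE⟩ ∈ C'.map mk := mem_map_of_mem mk hzC
    rw [h, mem_bot] at hm
    exact H.z_not_quad ((QuotientGroup.eq_one_iff _).1 hm)
  have hperf : Group.IsPerfect ↥(CE t e) := ⟨eq_top_iff.2 fun y _ => by
    obtain ⟨y', hy', he⟩ : mk y ∈ C'.map mk := htop ▸ mem_top _
    have := mul_mem hy' (hNC (QuotientGroup.eq.1 he))
    rwa [mul_inv_cancel_left] at this⟩
  have hZ : quadN H = center ↥(CE t e) := by
    refine le_antisymm (fun n hn => mem_center_iff.2 fun y => Subtype.ext ?_) fun y hy => ?_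
    · obtain ⟨hyt, hye⟩ := mem_CE.1 y.2
      show (y : G) * n = n * y
      rcases (quadN_cases H).1 hn with h | h | h | h <;> rw [h]
      exacts [by simp, hyt, hye, ((show Commute (y : G) t from hyt).mul_right hye).eq]
    · by_contra hy'
      have hc' : mk y ∈ center (LineQuot H) := mem_center_iff.2 fun w => by
        obtain ⟨w', rfl⟩ := QuotientGroup.mk'_surjective (quadN H) w
        rw [← map_mul, ← map_mul, mem_center_iff.1 hy w']
      rcases IsSimpleGroup.eq_bot_or_eq_top_of_normal (center (LineQuot H)) inferInstance with h | h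
      · rw [h, mem_bot] at hc'
        exact hy' ((QuotientGroup.eq_one_iff _).1 hc')
      · have hm : commutator (LineQuot H) = ⊥ := by
          rw [commutator_def, Subgroup.commutator_eq_bot_iff_le_centralizer]
          intro a _
          rw [mem_centralizer_iff]
          exact fun b _ => mem_center_iff.1 (h ▸ mem_top a) b
        have hz' : mk ⟨z, H.z_mem_CE⟩ ∈ commutator (LineQuot H) := by
          have := mem_map_of_mem mk hzC
          simp only [C', commutator_def, Subgroup.map_commutator] at this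
          exact Subgroup.commutator_mono le_top le_top this
        rw [hm, mem_bot] at hz'
        exact H.z_not_quad ((QuotientGroup.eq_one_iff _).1 hz')
  refine ⟨⟨hperf, ?_⟩, F, inferInstance, inferInstance, hF, f, hf, hker⟩
  haveI : Nontrivial (↥(CE t e) ⧸ center ↥(CE t e)) :=
    ((QuotientGroup.quotientMulEquivOfEq hZ).symm.toEquiv).nontrivial
  exact IsSimpleGroup.isSimpleGroup_of_surjective
    (QuotientGroup.quotientMulEquivOfEq hZ).toMonoidHom (QuotientGroup.quotientMulEquivOfEq hZ).surjective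

end Cfsg.Agent.H18.LFiFi22
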