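import Cfsg.Agent.H18.LFiFi22.Model
import Cfsg.Agent.H41.LFi.StabTwo
import Cfsg.Agent.H49.USix.Model

/-!
The four-dimensional space of the vectors orthogonal to a root modulo the root.
-/

set_option autoImplicit false
set_option maxRecDepth 20000

namespace Cfsg.Agent.H18.LFiFi22

open Cfsg Cfsg.Agent.Compute Cfsg.Agent.Unitary Cfsg.Agent.H41.SUSix Cfsg.Agent.H41.LFi
  Cfsg.Agent.H43.LFi Matrix
open Cfsg.Agent.H49.USix (W4 hh wt4 pol4)

/-- The last four coordinates. -/
def tail4 (u : Vec) : W4 := fun i => u i.succ.succ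

theorem tail4_add (u w : Vec) : tail4 (u + w) = tail4 u + tail4 w := rfl

theorem tail4_smul (c : K4) (u : Vec) : tail4 (c • u) = c • tail4 u := rfl

theorem tail4_emb (w : W4) : tail4 (emb4 w) = w := by
  funext i
  simp [tail4, emb4]

theorem tail4_r5 : tail4 r5 = 0 := by
  funext i
  show r5 i.succ.succ = 0
  rw [r5_val, if_neg (by simp)]

theorem perp_r5 (u : Vec) : (pol r5 u = 0 ∧ pol (ω₄ • r5) u = 0) ↔ u 0 = u 1 := by
  have key : ∀ a b : K4, (trK (a + b) = 0 ∧ trK (ω₄ ^ 2 * (a + b)) = 0) ↔ a = b := by decide +kernel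
  rw [pol_symm r5 u, pol_symm (ω₄ • r5) u, pol_eq, pol_eq, herm_smul_right, herm_r5]
  exact key _ _

theorem wt_tail {u : Vec} (h : u 0 = u 1) : wt u = wt4 (tail4 u) := by
  have key : ∀ a b : ZMod 2, iot a = iot b → a = b := by decide +kernel
  refine key _ _ ?_
  rw [← H49.USix.hh_self, ← herm_self, herm_two, h, ← add_assoc, k4_two, zero_add]
  rfl

/-- The coordinates of the quotient, through an element of the model sending the root to `v`. -/
noncomputable def lam (k : Equiv.Perm Vec) (u : Vec) : W4 := tail4 (k.symm u)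

/-- The section of the coordinates. -/
noncomputable def sect (k : Equiv.Perm Vec) (w : W4) : Vec := k (emb4 w)

/-- Orthogonal to the line. -/
def Perp (v u : Vec) : Prop := pol v u = 0 ∧ pol (ω₄ • v) u = 0

section Coordinates

variable {k : Equiv.Perm Vec} (hk : k ∈ Kl) {v : Vec} (hv : k r5 = v)
include hk

theorem semi_symm : Semi false k.symm := semi_of_mem_Kl (Kl.inv_mem hk)

theorem lam_add (u w : Vec) : lam k (u + w) = lam k u + lam k w := by
  rw [lam, (semi_symm hk).add, tail4_add]; rfl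

theorem lam_smul (c : K4) (u : Vec) : lam k (c • u) = c • lam k u := by
  rw [lam, (semi_symm hk).smul, tail4_smul]; rfl

theorem lam_zero : lam k 0 = 0 := by
  rw [lam, (semi_symm hk).map_zero]; rfl

omit hk in
theorem lam_sect (w : W4) : lam k (sect k w) = w := by
  rw [lam, sect, Equiv.symm_apply_apply, tail4_emb]

include hv

theorem perp_iff (u : Vec) : Perp v u ↔ k.symm u 0 = k.symm u 1 := by
  rw [← perp_r5, Perp]
  conv_lhs => rw [← hv, omega_Kl hk, ← k.apply_symm_apply u, pol_Kl hk, pol_Kl hk]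

theorem perp_sect (w : W4) : Perp v (sect k w) := by
  rw [perp_iff hk hv, sect, Equiv.symm_apply_apply]
  simp [emb4]

theorem lam_root (c : K4) : lam k (c • v) = 0 := by
  rw [lam_smul hk, ← hv, lam, Equiv.symm_apply_apply, tail4_r5, smul_zero]

theorem lam_eq_zero {u : Vec} (hu : Perp v u) (h : lam k u = 0) : ∃ c : K4, u = c • v := by
  refine ⟨k.symm u 0, ?_⟩
  have hs : k.symm u = k.symm u 0 • r5 := by
    conv_lhs => rw [split_perp ((perp_iff hk hv u).1 hu)]
    rw [show (fun i : Fin 4 => k.symm u i.succ.succ) = (0 : W4) from h]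
    rw [show emb4 (0 : W4) = 0 from by funext i; fin_cases i <;> rfl, add_zero]
  calc u = k (k.symm u) := (k.apply_symm_apply u).symm
    _ = k (k.symm u 0 • r5) := by rw [← hs]
    _ = _ := by rw [(semi_of_mem_Kl hk).smul, hv]; rfl

theorem wt_lam {u : Vec} (hu : Perp v u) : wt u = wt4 (lam k u) := by
  rw [lam, ← wt_tail ((perp_iff hk hv u).1 hu)]
  exact (wt_Kl (Kl.inv_mem hk) u).symm

theorem perp_add {u w : Vec} (hu : Perp v u) (hw : Perp v w) : Perp v (u + w) := by
  constructor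
  · rw [pol_add_right, hu.1, hw.1, add_zero]
  · rw [pol_add_right, hu.2, hw.2, add_zero]

theorem pol_lam {u w : Vec} (hu : Perp v u) (hw : Perp v w) :
    pol u w = pol4 (lam k u) (lam k w) := by
  rw [pol, pol4, wt_lam hk hv hu, wt_lam hk hv hw, wt_lam hk hv (perp_add hk hv hu hw), lam_add hk]

theorem stab_lift {x : Equiv.Perm Vec} (hx : x ∈ Kl) (hxv : x v = v) :
    ∃ g : ↥S5, ∀ u, x u = k (ap (g : ↥SG) (k.symm u)) := by
  have hmem : k⁻¹ * x * k ∈ S5.map lin := by
    rw [map_S5]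
    refine mem_stabK.2 ⟨Kl.mul_mem (Kl.mul_mem (Kl.inv_mem hk) hx) hk, ?_⟩
    show k.symm (x (k r5)) = r5
    rw [hv, hxv, ← hv, Equiv.symm_apply_apply]
  obtain ⟨g, hg, e⟩ := hmem
  refine ⟨⟨g, hg⟩, fun u => ?_⟩
  show x u = k (lin g (k.symm u))
  rw [e]
  show x u = k (k.symm (x (k (k.symm u))))
  rw [Equiv.apply_symm_apply, Equiv.apply_symm_apply]

/-- An element fixing the root acts on the coordinates through the special unitary group. -/
theorem lam_stab {x : Equiv.Perm Vec} {g : ↥S5} (hg : ∀ u, x u = k (ap (g : ↥SG) (k.symm u)))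
    {u : Vec} (hu : Perp v u) : lam k (x u) = ap (toFour g) (lam k u) := by
  rw [lam, hg, Equiv.symm_apply_apply]
  have e : ap (toFour g) (lam k u) = blockM (g : ↥SG) *ᵥ lam k u := rfl
  rw [e, blockM_mulVec]
  conv_lhs =>
    rw [split_perp ((perp_iff hk hv u).1 hu), ap_add, ap_smul, g.2.2, tail4_add, tail4_smul,
      tail4_r5, smul_zero, zero_add]
  rfl

theorem eq_one_of_lam {x : Equiv.Perm Vec} (hx : x ∈ Kl) (hxv : x v = v)
    (h : ∀ w, lam k (x (sect k w)) = w) : x = 1 := by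
  obtain ⟨g, hg⟩ := stab_lift hk hv hx hxv
  have h1 : blockM (g : ↥SG) = 1 := by
    refine Matrix.ext_iff_mulVec.2 fun w => ?_
    rw [Matrix.one_mulVec]
    have e := h w
    rw [lam_stab hk hv hg (perp_sect hk hv w), lam_sect] at e
    exact e
  have hg1 := eq_one_of_blockM g.2 h1
  refine Equiv.ext fun u => ?_
  rw [hg, hg1, ap_one, Equiv.apply_symm_apply]
  rfl

/-- Every element of the four-dimensional special unitary group is induced. -/
theorem exists_stab (g4 : ↥(Cfsg.SU 4 K4 2)) : ∃ x ∈ Kl, x v = v ∧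
    ∀ u, Perp v u → lam k (x u) = ap g4 (lam k u) := by
  have hinj : Function.Injective toFour := by
    rw [← MonoidHom.ker_eq_bot_iff, Subgroup.eq_bot_iff_forall]
    intro g hg
    exact Subtype.ext (eq_one_of_blockM g.2
      (congrArg (fun w : ↥(Cfsg.SU 4 K4 2) => mat w) (MonoidHom.mem_ker.1 hg)))
  have hb : Function.Bijective toFour :=
    (Nat.bijective_iff_injective_and_card _).2 ⟨hinj, by rw [card_S5, card_SU_four]⟩
  obtain ⟨g, rfl⟩ := hb.2 g4
  refine ⟨k * lin (g : ↥SG) * k⁻¹,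
    Kl.mul_mem (Kl.mul_mem hk (Subgroup.mem_map_of_mem _ g.2.1)) (Kl.inv_mem hk), ?_,
    fun u hu => lam_stab hk hv (fun _ => rfl) hu⟩
  show k (ap (g : ↥SG) (k.symm v)) = v
  rw [← hv, Equiv.symm_apply_apply, g.2.2]

end Coordinates

theorem shear_ok : mulVecC (mC 28) 271 = Nat.xor 271 3819 ∧ mulVecC (mC 28) 3819 = 3819 ∧
    clsC 3819 = 2 ∧ polC 3819 271 = 0 ∧ polC (scalC 2 3819) 271 = 0 := by
  decide +kernel

/-- An element fixing a root and moving an orthogonal vector by exactly that root. -/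
theorem exists_shear {v : Vec} (hv : cls v = 2) :
    ∃ x ∈ Kl, x v = v ∧ ∃ u, Perp v u ∧ x u + u = v := by
  obtain ⟨h1, h2, h3, h4, h5⟩ := shear_ok
  have hc : cls (dV 3819) = 2 := by rw [cls, eV_dV (by norm_num)]; exact h3
  obtain ⟨k1, hk1, e1⟩ := root_exists hc
  obtain ⟨k2, hk2, e2⟩ := root_exists hv
  set g := k2 * k1⁻¹ with hg
  have hgK : g ∈ Kl := Kl.mul_mem hk2 (Kl.inv_mem hk1)
  have hgv : g (dV 3819) = v := by
    rw [hg, Equiv.Perm.mul_apply, ← e1]
    show k2 (k1.symm (k1 (dV 5))) = v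
    rw [Equiv.symm_apply_apply, e2]
  have hk : (28 : ℕ) < 128 := by norm_num
  have hx : g * eP 28 * g⁻¹ ∈ Kl := Kl.mul_mem (Kl.mul_mem hgK (eP_mem 28)) (Kl.inv_mem hgK)
  have hap : ∀ u, (g * eP 28 * g⁻¹) (g u) = g (eP 28 u) := fun u => by
    show g (eP 28 (g.symm (g u))) = g (eP 28 u)
    rw [Equiv.symm_apply_apply]
  refine ⟨_, hx, ?_, g (dV 271), ⟨?_, ?_⟩, ?_⟩
  · rw [← hgv, hap, eP_dV hk, h2]
  · rw [← hgv, pol_Kl hgK, pol_dV (by norm_num) (by norm_num), h4]; rfl
  · rw [← hgv, omega_Kl hgK, pol_Kl hgK, omega_dV, pol_dV (scalC_lt _ _) (by norm_num), h5]; rfl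
  · rw [hap, eP_dV hk, h1, ← (semi_of_mem_Kl hgK).add, dV_xor, ← hgv]
    congr 1
    rw [add_comm (dV 271), add_assoc, vec_add_self, add_zero]

end Cfsg.Agent.H18.LFiFi22
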