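import Cfsg.Agent.H18.LFiFi22.Top
import Cfsg.Agent.H41.LFi.Pair

/-!
Large Fischer type: the printed form of the statement, given a four-group for every setting.
-/

set_option autoImplicit false

namespace Cfsg.Agent.H18.LFiFi22

open Subgroup Cfsg.Agent.H41.SUSix Cfsg.Agent.H41.LFi

universe u

/-- The statement, given the four-group. -/
theorem final {G : Type u} [Group G] [Finite G] (z : G)
    (Q : Subgroup (centralizer ({z} : Set G))) [Q.Normal]
    (hF : Cfsg.IsOfLargeFischerTypeAt z Q)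
    (four : ∀ S : LSetup z (Q.map (centralizer ({z} : Set G)).subtype),
      (∀ g : G, g * z * g⁻¹ ∈ Q.map (centralizer ({z} : Set G)).subtype → g * z * g⁻¹ ≠ z →
        H92.PairSetting (Q.map (centralizer ({z} : Set G)).subtype) z g) →
      ∃ t e : G, Line S t e ∧ Six t e)
    (t : G)
    (htQ : ∃ htc : t ∈ centralizer ({z} : Set G), (⟨t, htc⟩ : centralizer ({z} : Set G)) ∈ Q)
    (ht2 : orderOf t = 2) (ht : ¬ IsConj z t) (K : Subgroup ↥(centralizer ({t} : Set G)))
    (hK : K = Cfsg.generalizedFittingSubgroup ↥(centralizer ({t} : Set G)))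
    [hn : ((zpowers t).subgroupOf (centralizer ({t} : Set G))).Normal] :
    Cfsg.IsQuasisimple ↥K ∧ K.index = 2 ∧
      (∃ htc : t ∈ centralizer ({t} : Set G), (⟨t, htc⟩ : ↥(centralizer ({t} : Set G))) ∈ K) ∧
      Nonempty (↥(centralizer ({t} : Set G)) ⧸ (zpowers t).subgroupOf (centralizer ({t} : Set G))
        ≃* MulAut Cfsg.Spor.Fi22) := by
  obtain ⟨S⟩ := setup_of Q hF
  have pair := fun g hs hne => pair_of Q hF (g := g) hs hne
  obtain ⟨t0, e0, L, h6⟩ := four S pair
  obtain ⟨htc, htm⟩ := htQ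
  subst hK
  exact top (t := t) S pair L.htQ L.heQ L.tt L.ee L.hv L.he h6 ⟨⟨t, htc⟩, htm, rfl⟩ ht2 ht

end Cfsg.Agent.H18.LFiFi22
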