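import Cfsg.Agent.H18.LFiFi22.Check
import Cfsg.Agent.H43.LFi.Sylow
import Cfsg.Agent.H41.LFi.Core

/-!
Facts on the model of the large Fischer type centraliser about a root and its orthogonal.
-/

set_option autoImplicit false
set_option maxRecDepth 20000

namespace Cfsg.Agent.H18.LFiFi22

open Cfsg Cfsg.Agent.Compute Cfsg.Agent.H41.SUSix Cfsg.Agent.H41.LFi Cfsg.Agent.H43.LFi

theorem wt_cases (u : Vec) : wt u = if cls u = 1 then 1 else 0 := by
  have h := cls_one_iff u
  have : ∀ a : ZMod 2, a = 0 ∨ a = 1 := by decide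
  rcases this (wt u) with e | e
  · rw [e, if_neg (fun hc => by rw [h.1 hc] at e; exact absurd e (by decide))]
  · rw [e, if_pos (h.2 e)]

theorem wt_dV {v : ℕ} (hv : v < 4096) : wt (dV v) = (wC v : ZMod 2) := by
  rw [wt_cases, cls, eV_dV hv, wC]
  by_cases h : clsC v = 1
  · rw [if_pos h, h]; rfl
  · rw [if_neg h, show Nat.beq (clsC v) 1 = false by
      rw [← Bool.not_eq_true, Nat.beq_eq]; exact h]; rfl

theorem wC_le (v : ℕ) : wC v = 0 ∨ wC v = 1 := by
  unfold wC
  cases Nat.beq (clsC v) 1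
  · exact Or.inl rfl
  · exact Or.inr rfl

theorem pol_dV {a b : ℕ} (ha : a < 4096) (hb : b < 4096) :
    pol (dV a) (dV b) = (polC a b : ZMod 2) := by
  rw [pol, ← dV_xor, wt_dV (xor_lt ha hb), wt_dV ha, wt_dV hb, polC]
  rcases wC_le (Nat.xor a b) with e1 | e1 <;> rcases wC_le a with e2 | e2 <;>
    rcases wC_le b with e3 | e3 <;> rw [e1, e2, e3] <;> rfl

theorem omega_dV {v : ℕ} : ω₄ • dV v = dV (scalC 2 v) := by
  rw [dV_scalC (by norm_num), root_partner.2.2.2.2]

theorem good_elim {v a : ℕ} (hv : v < 4096) (ha : a < 4096) (h : goodC v a = true) :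
    pol (dV v) (dV a) = 0 ∧ pol (ω₄ • dV v) (dV a) = 1 := by
  rw [goodC, Bool.and_eq_true, Nat.beq_eq, Nat.beq_eq] at h
  rw [omega_dV, pol_dV hv ha, pol_dV (scalC_lt _ _) ha, h.1, h.2]
  exact ⟨rfl, rfl⟩

theorem wt_Kl {k : Equiv.Perm Vec} (hk : k ∈ Kl) (u : Vec) : wt (k u) = wt u := by
  rw [wt_cases, wt_cases u, cls_Kl hk]

theorem pol_Kl {k : Equiv.Perm Vec} (hk : k ∈ Kl) (u v : Vec) : pol (k u) (k v) = pol u v := by
  rw [pol, pol, ← (semi_of_mem_Kl hk).add, wt_Kl hk, wt_Kl hk, wt_Kl hk]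

theorem omega_Kl {k : Equiv.Perm Vec} (hk : k ∈ Kl) (u : Vec) : ω₄ • k u = k (ω₄ • u) :=
  ((semi_of_mem_Kl hk).smul ω₄ u).symm

theorem root_exists {v : Vec} (hv : cls v = 2) : ∃ k ∈ Kl, k (dV 5) = v :=
  transitive (a := 2) (Or.inl rfl) hv

theorem cls_omega {v : Vec} (hv : cls v = 2) : cls (ω₄ • v) = 2 := by
  obtain ⟨k, hk, rfl⟩ := root_exists hv
  rw [omega_Kl hk, cls_Kl hk, omega_dV, cls, eV_dV (scalC_lt _ _)]
  exact root_partner.2.2.2.1

/-- A second root with inner product one. -/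
theorem partner {v : Vec} (hv : cls v = 2) :
    ∃ a, pol v a = 0 ∧ pol (ω₄ • v) a = 1 ∧ cls a = 2 ∧ cls (a + v) = 2 := by
  obtain ⟨k, hk, rfl⟩ := root_exists hv
  obtain ⟨h1, h2⟩ := good_elim (v := 5) (a := 17) (by norm_num) (by norm_num) root_partner.1
  refine ⟨k (dV 17), ?_, ?_, ?_, ?_⟩
  · rw [pol_Kl hk]; exact h1
  · rw [omega_Kl hk, pol_Kl hk]; exact h2
  · rw [cls_Kl hk, cls, eV_dV (by norm_num)]; exact root_partner.2.1
  · rw [← (semi_of_mem_Kl hk).add, cls_Kl hk, ← dV_xor, cls, eV_dV (xor_lt (by norm_num) (by norm_num))]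
    exact root_partner.2.2.1

/-- A vector separating a root from an orthogonal vector of the third class. -/
theorem third {v w : Vec} (hv : cls v = 2) (hw : cls w = 3) (hvw : pol v w = 0) :
    ∃ a, pol v a = 0 ∧ pol (ω₄ • v) a = 1 ∧ pol w a = 0 := by
  obtain ⟨k, hk, rfl⟩ := root_exists hv
  obtain ⟨w', rfl⟩ : ∃ w', k w' = w := ⟨k.symm w, k.apply_symm_apply w⟩
  rw [cls_Kl hk] at hw
  rw [pol_Kl hk] at hvw
  have h := (allN_iff _ _).1 third_ok (eV w') (eV_lt _)
  rw [← dV_eV w', pol_dV (by norm_num) (eV_lt _)] at hvw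
  have h5 : polC 5 (eV w') = 0 := by
    rcases wC_le (Nat.xor 5 (eV w')) with e1 | e1 <;> rcases wC_le 5 with e2 | e2 <;>
      rcases wC_le (eV w') with e3 | e3 <;> simp only [polC, e1, e2, e3] at hvw ⊢ <;>
      first
        | rfl
        | exact absurd hvw (by decide)
  have hc : clsC (eV w') = 3 := hw
  rw [hc, h5, show Nat.beq 3 3 = true from rfl, show Nat.beq 0 0 = true from rfl, Bool.not_true,
    Bool.false_or, Bool.false_or] at h
  have h' : anyN 1024 (fun a => goodC 5 a && Nat.beq (polC (eV w') a) 0) = true := h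
  obtain ⟨a, ha, hga⟩ := anyN_elim h'
  rw [Bool.and_eq_true, Nat.beq_eq] at hga
  have ha' : a < 4096 := by omega
  obtain ⟨g1, g2⟩ := good_elim (by norm_num) ha' hga.1
  refine ⟨k (dV a), ?_, ?_, ?_⟩
  · rw [pol_Kl hk]; exact g1
  · rw [omega_Kl hk, pol_Kl hk]; exact g2
  · rw [pol_Kl hk, ← dV_eV w', pol_dV (eV_lt _) ha', hga.2]; rfl

theorem card_two_part : ∀ n, Nat.card Kl = n → 128 ∣ n ∧ ¬ 256 ∣ n := by
  rintro n rfl
  rw [card_Kl]
  norm_num

/-- An involution fixing a root moves some suitable vector by at most that root. -/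
theorem moved {k : Equiv.Perm Vec} (hk : k ∈ Kl) (h2 : k * k = 1) (h1 : k ≠ 1) {v : Vec}
    (hv : cls v = 2) (hfix : k v = v) :
    ∃ a, pol v a = 0 ∧ pol (ω₄ • v) a = 1 ∧ (k a = a ∨ k a = a + v) := by
  haveI : Fact (Nat.Prime 2) := ⟨Nat.prime_two⟩
  let T : Subgroup ↥Kl := Sgrp.subgroupOf Kl
  have hT : Nat.card T = 2 ^ (Nat.card ↥Kl).factorization 2 := by
    rw [Nat.card_congr (Subgroup.subgroupOfEquivOfLe S_le).toEquiv, card_S, card_Kl,
      show (3 * 3265920 : ℕ) = 2 ^ 7 * 76545 by norm_num,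
      Nat.factorization_mul (by norm_num) (by norm_num)]
    have hnd : Nat.factorization 76545 2 = 0 := Nat.factorization_eq_zero_of_not_dvd (by norm_num)
    rw [Finsupp.add_apply, hnd, add_zero, Nat.Prime.factorization_pow Nat.prime_two,
      Finsupp.single_eq_same]
    norm_num
  let P : Sylow 2 ↥Kl := Sylow.ofCard T hT
  have hz : IsPGroup 2 (Subgroup.zpowers (⟨k, hk⟩ : ↥Kl)) := by
    refine IsPGroup.of_card_dvd_pow (n := 1) ?_
    rw [Nat.card_zpowers, pow_one]
    exact orderOf_dvd_of_pow_eq_one (by rw [pow_two]; exact Subtype.ext h2)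
  obtain ⟨P', hP'⟩ := hz.exists_le_sylow
  obtain ⟨g, hg⟩ := MulAction.exists_smul_eq ↥Kl P P'
  have hkP : (⟨k, hk⟩ : ↥Kl) ∈ (P' : Subgroup ↥Kl) := hP' (Subgroup.mem_zpowers _)
  rw [← hg, Sylow.coe_subgroup_smul, Subgroup.mem_pointwise_smul_iff_inv_smul_mem] at hkP
  have hkP' : ((g : Equiv.Perm Vec))⁻¹ * k * (g : Equiv.Perm Vec) ∈ Sgrp := by
    have h3 : (((MulAut.conj g)⁻¹ • (⟨k, hk⟩ : ↥Kl) : ↥Kl) : Equiv.Perm Vec) ∈ Sgrp := hkP
    simpa [MulAut.smul_def, MulAut.conj_inv_apply, MulAut.conj_symm_apply, mul_assoc] using h3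
  obtain ⟨i, hi, he⟩ := mem_S.1 hkP'
  have hke : k = (g : Equiv.Perm Vec) * eP i * (g : Equiv.Perm Vec)⁻¹ := by rw [← he]; group
  have h0 : i ≠ 0 := fun e => h1 (by rw [hke, e, eP_zero]; group)
  have hsq : eP i * eP i = 1 := by
    rw [← he]
    calc _ = (g : Equiv.Perm Vec)⁻¹ * (k * k) * (g : Equiv.Perm Vec) := by group
      _ = 1 := by rw [h2]; group
  have hm := (allN_iff _ _).1 moved_ok i hi
  rw [(eP_sq hi).1 hsq] at hm
  simp only [Bool.or_eq_true, Nat.beq_eq, h0, false_or, Bool.not_eq_true'] at hm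
  rcases hm with hm | hm
  · exact Bool.noConfusion hm
  rw [allN_iff] at hm
  set v' := (g : Equiv.Perm Vec).symm v with hv'
  have hgv : (g : Equiv.Perm Vec) v' = v := (g : Equiv.Perm Vec).apply_symm_apply v
  have hfix' : eP i v' = v' := by
    rw [← he]
    show (g : Equiv.Perm Vec).symm (k ((g : Equiv.Perm Vec) v')) = v'
    rw [hgv, hfix]
  have hcls : clsC (eV v') = 2 := by
    have := cls_Kl g.2 v'
    rw [hgv, hv] at this
    exact this.symm
  have hfc : mulVecC (mC i) (eV v') = eV v' := by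
    refine dV_inj (mulVecC_lt _ _) (eV_lt _) ?_
    rw [← eP_dV hi, dV_eV, hfix']
  have h := hm (eV v') (eV_lt _)
  simp only [Bool.or_eq_true, Bool.not_eq_true', hcls, hfc] at h
  rcases h with (h | h) | h
  · exact absurd h (by decide)
  · rw [← Bool.not_eq_true, Nat.beq_eq] at h; exact absurd rfl h
  obtain ⟨a, ha, hga⟩ := anyN_elim h
  rw [Bool.and_eq_true, Bool.or_eq_true, Nat.beq_eq, Nat.beq_eq] at hga
  obtain ⟨g1, g2⟩ := good_elim (eV_lt _) ha hga.1
  rw [dV_eV] at g1 g2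
  refine ⟨(g : Equiv.Perm Vec) (dV a), ?_, ?_, ?_⟩
  · rw [← hgv, pol_Kl g.2]; exact g1
  · rw [← hgv, omega_Kl g.2, pol_Kl g.2]; exact g2
  · have hk' : k ((g : Equiv.Perm Vec) (dV a)) = (g : Equiv.Perm Vec) (eP i (dV a)) := by
      rw [hke]
      show (g : Equiv.Perm Vec) (eP i ((g : Equiv.Perm Vec).symm ((g : Equiv.Perm Vec) (dV a)))) = _
      rw [Equiv.symm_apply_apply]
    rw [hk', eP_dV hi]
    rcases hga.2 with e | e
    · exact Or.inl (by rw [e])
    · exact Or.inr (by rw [e, dV_xor, dV_eV, (semi_of_mem_Kl g.2).add, hgv])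

theorem pol_omega (v a : Vec) : pol v (ω₄ • a) = pol v a + pol (ω₄ • v) a := by
  have hr : hermForm 6 K4 2 v (ω₄ • a) = ω₄ ^ 2 * hermForm 6 K4 2 v a := by
    rw [hermForm, hermForm, Finset.mul_sum]
    exact Finset.sum_congr rfl fun i _ => by simp [mul_pow]; ring
  rw [pol_eq, pol_eq, pol_eq, hr, herm_smul_left]
  have key : ∀ x : K4, trK (ω₄ ^ 2 * x) = trK x + trK (ω₄ * x) := by decide +kernel
  exact key _

theorem pol_self (v : Vec) : pol v v = 0 := by
  rw [pol, vec_add_self, wt_zero, zero_add]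
  exact zmod_add_self _

theorem pol_self_omega {v : Vec} (hv : wt v = 0) : pol (ω₄ • v) v = 0 := by
  rw [pol_eq, herm_smul_left, herm_self, hv]
  decide +kernel

theorem pol_zero_right (w : Vec) : pol w 0 = 0 := by
  have h := pol_add_right w 0 0
  rw [add_zero] at h
  exact left_eq_add.1 h

/-- The orthogonal of the orthogonal of two vectors. -/
theorem dual_mem {v a b1 b2 : Vec} (hb1 : pol v b1 = 1) (hb1' : pol a b1 = 0) (hb2 : pol v b2 = 0)
    (hb2' : pol a b2 = 1) {y : Vec} (hy : ∀ w, pol v w = 0 → pol a w = 0 → pol y w = 0) :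
    y = 0 ∨ y = v ∨ y = a ∨ y = v + a := by
  have z01 : ∀ c : ZMod 2, c = 0 ∨ c = 1 := by decide
  obtain ⟨c, hc⟩ : ∃ c, c = pol y b1 := ⟨_, rfl⟩
  obtain ⟨d, hd⟩ : ∃ d, d = pol y b2 := ⟨_, rfl⟩
  let y' : Vec := (if c = 0 then 0 else v) + (if d = 0 then 0 else a)
  suffices h : y + y' = 0 by
    rw [vec_eq_of_add h]
    simp only [y']
    rcases z01 c with e | e <;> rcases z01 d with e' | e' <;> simp [e, e']
  by_contra hne
  obtain ⟨u, hu⟩ := pol_nondeg hne
  let u' : Vec := u + (if pol v u = 0 then 0 else b1) + (if pol a u = 0 then 0 else b2)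
  have hp0 : ∀ w, pol w (0 : Vec) = 0 := pol_zero_right
  have hp0' : ∀ w, pol (0 : Vec) w = 0 := fun w => by rw [pol_symm]; exact hp0 w
  have hu' : pol v u' = 0 ∧ pol a u' = 0 := by
    simp only [u', pol_add_right]
    rcases z01 (pol v u) with e | e <;> rcases z01 (pol a u) with e' | e' <;>
      simp [e, e', hb1, hb1', hb2, hb2', hp0, zmod_add_self]
  have h3 := hy u' hu'.1 hu'.2
  simp only [u', pol_add_right] at h3
  simp only [y', pol_add_left] at hu
  rw [hc, hd] at hu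
  rcases z01 (pol v u) with e | e <;> rcases z01 (pol a u) with e' | e' <;>
    rcases z01 (pol y b1) with e1 | e1 <;> rcases z01 (pol y b2) with e2 | e2 <;>
    rcases z01 (pol y u) with e3 | e3 <;>
    simp [e, e', e1, e2, e3, hp0, hp0', zmod_add_self] at h3 hu

/-- The dual pair of a root and a partner. -/
theorem exists_dual {v a : Vec} (hv : cls v = 2) (hoa : pol (ω₄ • v) a = 1) :
    ∃ b1, pol v b1 = 1 ∧ pol a b1 = 0 ∧ pol v (ω₄ • v) = 0 ∧ pol a (ω₄ • v) = 1 := by
  have hv0 : v ≠ 0 := fun e => by rw [((facts v).2.1).2 e] at hv; exact absurd hv (by norm_num)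
  have hwv : wt v = 0 := by rw [wt_cases, if_neg (by rw [hv]; norm_num)]
  have hvo : pol v (ω₄ • v) = 0 := by rw [pol_symm]; exact pol_self_omega hwv
  have hao : pol a (ω₄ • v) = 1 := by rw [pol_symm]; exact hoa
  obtain ⟨b0, hb0⟩ := pol_nondeg hv0
  have z01 : ∀ c : ZMod 2, c = 0 ∨ c = 1 := by decide
  rcases z01 (pol a b0) with e | e
  · exact ⟨b0, hb0, e, hvo, hao⟩
  · refine ⟨b0 + ω₄ • v, ?_, ?_, hvo, hao⟩
    · rw [pol_add_right, hb0, hvo, add_zero]
    · rw [pol_add_right, e, hao]; exact zmod_add_self _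

/-- An element of the model fixing the orthogonal of `v` and `a` is trivial. -/
theorem fixer_eq_one {θ : Bool} {x : Equiv.Perm Vec} (hx : Semi θ x)
    (hwt : ∀ u, wt (x u) = wt u) {v a : Vec} (hv : cls v = 2) (hva : pol v a = 0)
    (hoa : pol (ω₄ • v) a = 1) (hfix : ∀ w, pol v w = 0 → pol a w = 0 → x w = w) : x = 1 := by
  obtain ⟨b1, hb1, hb1', hvo, hao⟩ := exists_dual hv hoa
  have z01 : ∀ c : ZMod 2, c = 0 ∨ c = 1 := by decide
  have hphi : ∀ u, x u + u = 0 ∨ x u + u = v ∨ x u + u = a ∨ x u + u = v + a := by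
    intro u
    refine dual_mem hb1 hb1' hvo hao fun w h1 h2 => ?_
    have e : pol (x u) w = pol u w := by
      conv_lhs => rw [← hfix w h1 h2]
      rw [pol, pol, ← hx.add, hwt, hwt, hwt]
    rw [pol_add_left, e, zmod_add_self]
  have h1 : pol v (ω₄ • a) = 1 := by rw [pol_omega, hva, hoa, zero_add]
  have hav : pol a v = 0 := by rw [pol_symm]; exact hva
  have hp0 : ∀ w, pol w (0 : Vec) = 0 := pol_zero_right
  cases θ
  · refine Equiv.ext fun u => vec_eq_of_add ?_
    have e' : x (ω₄ • u) + ω₄ • u = ω₄ • (x u + u) := by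
      rw [hx.smul, show tw false ω₄ = ω₄ from rfl, smul_add]
    have hmem := hphi (ω₄ • u)
    rw [e'] at hmem
    show x u + u = 0
    rcases hphi u with e | e | e | e
    · exact e
    all_goals
      exfalso
      rw [e] at hmem
      rcases hmem with f | f | f | f
    all_goals
      have k1 := congrArg (pol v) f
      have k2 := congrArg (pol a) f
      simp [smul_add, pol_add_right, hvo, hao, h1, hva, hav, pol_self, hp0, zmod_add_self] at k1 k2
  · exfalso
    let f : (Fin 4) × (ZMod 2 × ZMod 2) → Vec := fun p =>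
      ![0, v, a, v + a] p.1 + (if p.2.1 = 0 then 0 else b1) + (if p.2.2 = 0 then 0 else ω₄ • v)
    have hf : Function.Surjective f := by
      intro u
      let u' : Vec := u + (if pol v u = 0 then 0 else b1) + (if pol a u = 0 then 0 else ω₄ • v)
      have hu' : pol v u' = 0 ∧ pol a u' = 0 := by
        simp only [u', pol_add_right]
        rcases z01 (pol v u) with e | e <;> rcases z01 (pol a u) with e' | e' <;>
          simp [e, e', hb1, hb1', hvo, hao, hp0, zmod_add_self]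
      have hs := hphi (ω₄ • u')
      rw [hx.smul, hfix _ hu'.1 hu'.2, ← add_smul,
        show tw true ω₄ + ω₄ = 1 by decide +kernel, one_smul] at hs
      obtain ⟨i, hi⟩ : ∃ i : Fin 4, u' = ![0, v, a, v + a] i := by
        rcases hs with e | e | e | e
        exacts [⟨0, e⟩, ⟨1, e⟩, ⟨2, e⟩, ⟨3, e⟩]
      refine ⟨(i, pol v u, pol a u), ?_⟩
      show ![0, v, a, v + a] i + _ + _ = u
      rw [← hi]
      simp only [u']
      calc _ = u + ((if pol v u = 0 then 0 else b1) + (if pol v u = 0 then 0 else b1)) +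
            ((if pol a u = 0 then 0 else ω₄ • v) + (if pol a u = 0 then 0 else ω₄ • v)) := by abel
        _ = u := by rw [vec_add_self, vec_add_self, add_zero, add_zero]
    have hle := Nat.card_le_card_of_surjective f hf
    rw [card_vec, Nat.card_prod, Nat.card_prod, Nat.card_zmod, Nat.card_fin] at hle
    omega

end Cfsg.Agent.H18.LFiFi22
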