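import Cfsg.Agent.H18.LFiFi22.Basic
import Cfsg.Agent.H18.LFiFi22.Model
import Cfsg.Agent.H41.LFi.Stab

/-!
Large Fischer type: the centraliser of a non-central involution of the core has a subgroup of
index two meeting the stabiliser of the four-group in its centraliser.
-/

set_option autoImplicit false
set_option maxRecDepth 4000

namespace Cfsg.Agent.H18.LFiFi22

open Subgroup Cfsg.Agent.H41.SUSix Cfsg.Agent.H41.LFi
open Cfsg.Agent.H92.ExtraForm (zp zp_inj)
open Cfsg.Agent.H43.LFi (vec_add_self)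

variable {G : Type*} [Group G] [Finite G] {z : G} {Q : Subgroup G}

/-- The centraliser of `t`. -/
abbrev CT (t : G) : Subgroup G := centralizer ({t} : Set G)

/-- The centraliser of the pair. -/
abbrev CE (t e : G) : Subgroup G := centralizer ({t, e} : Set G)

theorem mem_CT {t x : G} : x ∈ CT t ↔ x * t = t * x := mem_centralizer_singleton_iff

theorem mem_CE {t e x : G} : x ∈ CE t e ↔ x * t = t * x ∧ x * e = e * x := by
  rw [CE, mem_centralizer_iff]
  simp only [Set.mem_insert_iff, Set.mem_singleton_iff, forall_eq_or_imp, forall_eq]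
  exact and_congr eq_comm eq_comm

/-- The stabiliser of `z` in the centraliser of `t`. -/
theorem mem_HT {t : G} {x : ↥(CT t)} :
    x ∈ (centralizer ({z} : Set G)).subgroupOf (CT t) ↔ (x : G) * z = z * x := by
  rw [mem_subgroupOf, mem_centralizer_singleton_iff]

theorem zmod2_cases : ∀ a : ZMod 2, a = 0 ∨ a = 1 := by decide

theorem zp_one : zp z (1 : ZMod 2) = z := rfl

theorem omega_sq_smul (v : Vec) : (ω₄ * ω₄) • v = v + ω₄ • v := by
  have h : ∀ a : K4, ω₄ * ω₄ * a = a + ω₄ * a := by decide +kernel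
  funext i
  exact h (v i)

/-- A root `π t` and its primitive multiple `π e`. -/
structure Line (S : LSetup z Q) (t e : G) : Prop where
  pair : ∀ g : G, g * z * g⁻¹ ∈ Q → g * z * g⁻¹ ≠ z → H92.PairSetting Q z g
  htQ : t ∈ Q
  heQ : e ∈ Q
  tt : t * t = 1
  ee : e * e = 1
  hv : cls (S.π t) = 2
  he : S.π e = ω₄ • S.π t

/-- The data: a line, a perfect centraliser in which `z` commutes with another conjugate. -/
structure Hyp (S : LSetup z Q) (t e : G) : Prop extends Line S t e where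
  perf : Group.IsPerfect ↥(CE t e)
  hnc : ∃ h ∈ CE t e, h * z * h⁻¹ ≠ z ∧ z * (h * z * h⁻¹) = h * z * h⁻¹ * z

namespace Line

variable {S : LSetup z Q} {t e : G} (H : Line S t e)
include H

theorem tz : t * z = z * t := S.le t H.htQ
theorem ez : e * z = z * e := S.le e H.heQ

theorem hve : cls (S.π e) = 2 := by rw [H.he]; exact cls_omega H.hv

theorem pol_te : pol (S.π t) (S.π e) = 0 := by
  rw [H.he, pol_symm]
  exact pol_self_omega (by rw [wt_cases, if_neg (by rw [H.hv]; norm_num)])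

theorem te : t * e = e * t := ((S.comm_iff H.htQ H.heQ).2 H.pol_te)

theorem z_mem_CT : z ∈ CT t := mem_CT.2 H.tz.symm
theorem e_mem_CT : e ∈ CT t := mem_CT.2 H.te.symm

theorem π_te : S.π (t * e) = (ω₄ * ω₄) • S.π t := by
  rw [S.π_mul t H.htQ e H.heQ, H.he, omega_sq_smul]

theorem cls_te : cls (S.π (t * e)) = 2 := by
  rw [H.π_te, mul_smul]
  exact cls_omega (cls_omega H.hv)

theorem not_conj {q : G} (hq : q ∈ Q) (h2 : cls (S.π q) = 2) (g : G) : g * z * g⁻¹ ≠ q := by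
  intro e1
  have hne : g * z * g⁻¹ ≠ z := fun e2 => by
    rw [← e1, e2, S.π_z, ((facts (0 : Vec)).2.1).2 rfl] at h2
    exact absurd h2 (by norm_num)
  have h3 := S.cls_eq_three (H.pair g (e1 ▸ hq) hne)
  rw [e1, h2] at h3
  exact absurd h3 (by norm_num)

theorem semi_cases {c : G} (hc : c * z = z * c) : S.ρ c ∈ Kl ∨ Semi true (S.ρ c) := by
  by_cases h : S.ρ c ∈ Kl
  · exact Or.inl h
  · obtain ⟨g, hg1, hg2⟩ := S.nwc
    exact Or.inr (S.outer_semi (H.pair g hg1 hg2) hc h)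

/-- The four images of `e`. -/
theorem conj_e {x : G} (hz : x * z = z * x) (ht : x * t = t * x) :
    x * e * x⁻¹ = e ∨ x * e * x⁻¹ = z * e ∨ x * e * x⁻¹ = t * e ∨ x * e * x⁻¹ = z * (t * e) := by
  have hρ : S.ρ x (S.π t) = S.π t := by
    rw [← S.ρ_π x hz t H.htQ, ht, mul_inv_cancel_right]
  have hm := S.norm x hz e H.heQ
  have hπ : S.π (x * e * x⁻¹) = S.π e ∨ S.π (x * e * x⁻¹) = S.π (t * e) := by
    rw [S.ρ_π x hz e H.heQ, H.π_te, H.he]
    obtain ⟨θ, hθ⟩ := S.ρ_semi x hz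
    rw [hθ.smul, hρ]
    cases θ
    · exact Or.inl rfl
    · exact Or.inr (by rw [show tw true ω₄ = ω₄ * ω₄ from by decide +kernel])
  rcases hπ with h | h
  · rcases S.π_eq H.heQ hm h.symm with h' | h'
    · exact Or.inl h'
    · exact Or.inr (Or.inl h')
  · rcases S.π_eq (mul_mem H.htQ H.heQ) hm h.symm with h' | h'
    · exact Or.inr (Or.inr (Or.inl h'))
    · exact Or.inr (Or.inr (Or.inr h'))

theorem CE_le : CE t e ≤ CT t := fun _ hx => mem_CT.2 (mem_CE.1 hx).1

end Line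

namespace Hyp

variable {S : LSetup z Q} {t e : G} (H : Hyp S t e)
include H

theorem zte_e {x : G} (hz : x * z = z * x) (ht : x * t = t * x) :
    x * (z * (t * e)) * x⁻¹ = z * (t * (x * e * x⁻¹)) := by
  calc x * (z * (t * e)) * x⁻¹ = (x * z) * t * e * x⁻¹ := by group
    _ = z * (x * t) * e * x⁻¹ := by rw [hz]; group
    _ = _ := by rw [ht]; group

theorem zt_sq : ∀ y : G, z * (t * (z * (t * y))) = y := by
  intro y
  calc z * (t * (z * (t * y))) = z * (t * z) * t * y := by group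
    _ = (z * z) * (t * t) * y := by rw [H.tz]; group
    _ = y := by rw [S.z_sq, H.tt, one_mul, one_mul]

/-- Those elements of it sending `e` to `e` or to `z * t * e`. -/
def K1 : Subgroup ↥(CT t) where
  carrier := {x | (x : G) * z = z * x ∧
    ((x : G) * e * (x : G)⁻¹ = e ∨ (x : G) * e * (x : G)⁻¹ = z * (t * e))}
  one_mem' := ⟨by simp, Or.inl (by simp)⟩
  mul_mem' {x y} hx hy := by
    have hxt : (x : G) * t = t * x := mem_CT.1 x.2
    have hz : ((x * y : ↥(CT t)) : G) * z = z * (x * y : ↥(CT t)) :=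
      S.z_comm_mul hx.1 hy.1
    refine ⟨hz, ?_⟩
    have e1 : ((x * y : ↥(CT t)) : G) * e * ((x * y : ↥(CT t)) : G)⁻¹ =
        (x : G) * ((y : G) * e * (y : G)⁻¹) * (x : G)⁻¹ := by push_cast; group
    rw [e1]
    rcases hy.2 with h | h <;> rw [h]
    · exact hx.2
    · rw [H.zte_e hx.1 hxt]
      rcases hx.2 with h' | h' <;> rw [h']
      · exact Or.inr rfl
      · exact Or.inl (H.zt_sq e)
  inv_mem' {x} hx := by
    have hz : ((x⁻¹ : ↥(CT t)) : G) * z = z * (x⁻¹ : ↥(CT t)) := S.z_comm_inv hx.1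
    have ht : ((x⁻¹ : ↥(CT t)) : G) * t = t * (x⁻¹ : ↥(CT t)) := mem_CT.1 (x⁻¹).2
    refine ⟨hz, ?_⟩
    rcases hx.2 with h | h
    · refine Or.inl ?_
      conv_lhs => rw [← h]
      push_cast; group
    · refine Or.inr ?_
      have e1 : ((x⁻¹ : ↥(CT t)) : G) * (z * (t * e)) * ((x⁻¹ : ↥(CT t)) : G)⁻¹ = e := by
        rw [← h]; push_cast; group
      rw [H.zte_e hz ht] at e1
      calc ((x⁻¹ : ↥(CT t)) : G) * e * ((x⁻¹ : ↥(CT t)) : G)⁻¹
          = z * (t * (z * (t * (((x⁻¹ : ↥(CT t)) : G) * e * ((x⁻¹ : ↥(CT t)) : G)⁻¹)))) :=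
            (H.zt_sq _).symm
        _ = z * (t * e) := by rw [e1]

/-- An element of the core of `t` swapping `e` and `z * e` whose image has a root as sum with the root. -/
theorem exists_alpha : ∃ a ∈ Q, a * a = 1 ∧ a * t = t * a ∧ a * e * a⁻¹ = z * e ∧
    cls (S.π a) = 2 ∧ cls (S.π a + S.π t) = 2 := by
  obtain ⟨u, h1, h2, h3, h4⟩ := partner H.hv
  obtain ⟨a, ha, rfl⟩ := S.π_surj u
  refine ⟨a, ha, ?_, ?_, ?_, h3, h4⟩
  · rw [S.sq a ha, wt_cases, if_neg (by rw [h3]; norm_num)]; rfl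
  · exact ((S.comm_iff H.htQ ha).2 h1).symm
  · have hc := S.comm e H.heQ a ha
    rw [H.he, h2, zp_one] at hc
    rw [hc, S.le _ (mul_mem H.heQ ha), mul_assoc, mul_inv_cancel_right]

theorem swap_e {a : G} (ha : a ∈ Q) (hp : pol (ω₄ • S.π t) (S.π a) = 1) :
    a * e * a⁻¹ = z * e := by
  have hc := S.comm e H.heQ a ha
  rw [H.he, hp, zp_one] at hc
  rw [hc, S.le _ (mul_mem H.heQ ha), mul_assoc, mul_inv_cancel_right]

theorem perfect_hom {A : Type*} [CommGroup A] (f : ↥(CE t e) →* A) (x : ↥(CE t e)) : f x = 1 :=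
  MonoidHom.mem_ker.1 (Abelianization.commutator_subset_ker f
    (H.perf.commutator_eq_top ▸ mem_top x))

/-- A character of the centraliser of `t`: trivial on the perfect centraliser, `-1` on a swapper. -/
theorem exists_sign : ∃ f : ↥(CT t) →* ℤˣ,
    (∀ x : ↥(CT t), (x : G) * e = e * x → f x = 1) ∧
    (∀ x : ↥(CT t), (x : G) ∈ Q → pol (ω₄ • S.π t) (S.π (x : G)) = 1 → f x = -1) := by
  classical
  haveI : Fact (Nat.Prime 2) := ⟨Nat.prime_two⟩
  obtain ⟨a, haQ, ha2, hat, hae, hca, hcat⟩ := H.exists_alpha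
  let aC : ↥(CT t) := ⟨a, mem_CT.2 hat⟩
  letI : Fintype (↥(CT t) ⧸ H.K1) := Fintype.ofFinite _
  let f : ↥(CT t) →* ℤˣ :=
    Equiv.Perm.sign.comp (MulAction.toPermHom ↥(CT t) (↥(CT t) ⧸ H.K1))
  have hCE : ∀ x : ↥(CT t), (x : G) * e = e * x → f x = 1 := by
    intro x hx
    exact H.perfect_hom (f.comp (Subgroup.inclusion H.CE_le))
      ⟨(x : G), mem_CE.2 ⟨mem_CT.1 x.2, hx⟩⟩
  refine ⟨f, hCE, ?_⟩
  have hfa : f aC = -1 := by
    let R : Subgroup ↥(CT t) := (Q ⊓ centralizer ({a} : Set G)).subgroupOf (CT t)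
    refine sign_eq_neg_one ((centralizer ({z} : Set G)).subgroupOf (CT t)) H.K1
      (fun x hx => mem_HT.2 hx.1) (a := aC) (Subtype.ext ha2) (mem_HT.2 (S.le a haQ)) ?_ ?_ R ?_ ?_
      ?_ ?_
    · rintro ⟨-, h | h⟩
      · have : z * e = e := hae.symm.trans h
        exact S.z_ne (mul_eq_right.1 this)
      · have h' : z * e = z * (t * e) := hae.symm.trans h
        have h'' : t = 1 := mul_eq_right.1 (mul_left_cancel h').symm
        have := H.hv
        rw [h'', S.π_one, ((facts (0 : Vec)).2.1).2 rfl] at this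
        exact absurd this (by norm_num)
    · intro x hx
      have hxz := mem_HT.1 hx
      rcases H.conj_e hxz (mem_CT.1 x.2) with h | h | h | h
      · exact Or.inl ⟨hxz, Or.inl h⟩
      · refine Or.inr ⟨S.z_comm_mul (S.le a haQ) hxz, Or.inl ?_⟩
        show (a * (x : G)) * e * (a * (x : G))⁻¹ = e
        rw [show (a * (x : G)) * e * (a * (x : G))⁻¹ = a * ((x : G) * e * (x : G)⁻¹) * a⁻¹ by group,
          h, show a * (z * e) * a⁻¹ = (a * z) * e * a⁻¹ by group, S.le a haQ,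
          show z * a * e * a⁻¹ = z * (a * e * a⁻¹) by group, hae, ← mul_assoc, S.z_sq, one_mul]
      · refine Or.inr ⟨S.z_comm_mul (S.le a haQ) hxz, Or.inr ?_⟩
        show (a * (x : G)) * e * (a * (x : G))⁻¹ = z * (t * e)
        rw [show (a * (x : G)) * e * (a * (x : G))⁻¹ = a * ((x : G) * e * (x : G)⁻¹) * a⁻¹ by group,
          h, show a * (t * e) * a⁻¹ = (a * t) * e * a⁻¹ by group, hat,
          show t * a * e * a⁻¹ = t * (a * e * a⁻¹) by group, hae, ← mul_assoc, H.tz, mul_assoc]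
      · exact Or.inl ⟨hxz, Or.inr h⟩
    · refine (IsPGroup.of_card (n := 13) S.card_Q).of_injective
        (MonoidHom.mk' (fun r : R => (⟨((r : ↥(CT t)) : G), (mem_subgroupOf.1 r.2).1⟩ : ↥Q))
          fun r s => rfl) fun r s h => Subtype.ext (Subtype.ext (congrArg (fun q : ↥Q => (q : G)) h))
    · intro r hr
      exact Subtype.ext (mem_centralizer_singleton_iff.1 (mem_subgroupOf.1 hr).2)
    · intro r hr
      exact mem_HT.2 (S.le _ (mem_subgroupOf.1 hr).1)
    · intro x hx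
      set z' : G := (x : G) * z * (x : G)⁻¹ with hz'
      have hcom : ∀ q ∈ Q, q * t = t * q → q * a = a * q → z' * q = q * z' := by
        intro q hq hqt hqa
        have h := mem_HT.1 (hx ⟨q, mem_CT.2 hqt⟩
          (mem_subgroupOf.2 ⟨hq, mem_centralizer_singleton_iff.2 hqa⟩))
        push_cast at h
        calc z' * q = (x : G) * (z * ((x : G)⁻¹ * q * (x : G))) * (x : G)⁻¹ := by rw [hz']; group
          _ = (x : G) * (((x : G)⁻¹ * q * (x : G)) * z) * (x : G)⁻¹ := by rw [h]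
          _ = q * z' := by rw [hz']; group
      have hzz : z' * z = z * z' := hcom z S.hzQ H.tz.symm (S.le a haQ).symm
      have hfix : ∀ w, pol (S.π t) w = 0 → pol (S.π a) w = 0 → S.ρ z' w = w := by
        intro w h1 h2
        obtain ⟨q, hq, rfl⟩ := S.π_surj w
        rw [← S.ρ_π z' hzz q hq, hcom q hq ((S.comm_iff H.htQ hq).2 h1).symm
          ((S.comm_iff haQ hq).2 h2).symm, mul_inv_cancel_right]
      have hpa : pol (ω₄ • S.π t) (S.π a) = 1 := by
        rcases zmod2_cases (pol (ω₄ • S.π t) (S.π a)) with h0 | h1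
        · exfalso
          rw [← H.he] at h0
          have hc : e * a = a * e := (S.comm_iff H.heQ haQ).2 h0
          rw [← hc, mul_inv_cancel_right] at hae
          exact S.z_ne (mul_eq_right.1 hae.symm)
        · exact h1
      have hva : pol (S.π t) (S.π a) = 0 := (S.comm_iff H.htQ haQ).1 hat.symm
      obtain ⟨θ, hθ⟩ := S.ρ_semi z' hzz
      have hz'Q : z' ∈ Q := (S.ρ_ker z' hzz).1
        (fixer_eq_one hθ (S.ρ_wt z' hzz) H.hv hva hpa hfix)
      obtain ⟨b1, hb1, hb1', hvo, hao⟩ := exists_dual H.hv hpa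
      have hmem := dual_mem hb1 hb1' hvo hao (y := S.π z') fun w h1 h2 => by
        obtain ⟨q, hq, rfl⟩ := S.π_surj w
        exact (S.comm_iff hz'Q hq).1 (hcom q hq ((S.comm_iff H.htQ hq).2 h1).symm
          ((S.comm_iff haQ hq).2 h2).symm)
      rcases hmem with h | h | h | h
      · rcases (S.π_zero z' hz'Q).1 h with h' | h'
        · exfalso
          refine S.z_ne ?_
          calc z = (x : G)⁻¹ * z' * (x : G) := by rw [hz']; group
            _ = 1 := by rw [h']; group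
        · exact mem_HT.2 (mul_inv_eq_iff_eq_mul.1 h')
      · exact absurd rfl (H.not_conj hz'Q (by rw [h, H.hv]) (x : G))
      · exact absurd rfl (H.not_conj hz'Q (by rw [h, hca]) (x : G))
      · exact absurd rfl (H.not_conj hz'Q (by rw [h, add_comm, hcat]) (x : G))
  intro x hxQ hx1
  have hxa : f (x * aC) = 1 := by
    refine hCE _ ?_
    show (x : G) * a * e = e * ((x : G) * a)
    refine ((S.comm_iff H.heQ (mul_mem hxQ haQ)).2 ?_).symm
    rw [S.π_mul _ hxQ _ haQ, pol_add_right, H.he, hx1]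
    have hc := S.comm e H.heQ a haQ
    rcases zmod2_cases (pol (ω₄ • S.π t) (S.π a)) with h0 | h0
    · exfalso
      rw [← H.he] at h0
      rw [← (S.comm_iff H.heQ haQ).2 h0, mul_inv_cancel_right] at hae
      exact S.z_ne (mul_eq_right.1 hae.symm)
    · rw [h0]; rfl
  rw [map_mul, hfa] at hxa
  calc f x = f x * (-1) * (-1) := by simp
    _ = -1 := by rw [hxa, one_mul]

/-- An element with value `-1` exchanging `e` and `t * e`, and the description of the stabiliser. -/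
theorem exists_swap {f : ↥(CT t) →* ℤˣ} (hf1 : ∀ x : ↥(CT t), (x : G) * e = e * x → f x = 1)
    (hf2 : ∀ x : ↥(CT t), (x : G) ∈ Q → pol (ω₄ • S.π t) (S.π (x : G)) = 1 → f x = -1) :
    ∃ b : ↥(CT t), f b = -1 ∧ (b : G) * e * (b : G)⁻¹ = t * e := by
  obtain ⟨h, hh, hne, hcz⟩ := H.hnc
  obtain ⟨hht, hhe⟩ := mem_CE.1 hh
  obtain ⟨a, haQ, ha2, hat, hae, hca, hcat⟩ := H.exists_alpha
  set z1 := h * z * h⁻¹ with hz1
  have hz1z : z1 * z = z * z1 := hcz.symm
  have hz1z1 : z1 * z1 = 1 := by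
    rw [hz1, show h * z * h⁻¹ * (h * z * h⁻¹) = h * (z * z) * h⁻¹ by group, S.z_sq]; group
  have hzCE : z ∈ CE t e := mem_CE.2 ⟨H.tz.symm, H.ez.symm⟩
  obtain ⟨hz1t, hz1e⟩ := mem_CE.1
    (show z1 ∈ CE t e from mul_mem (mul_mem hh hzCE) (inv_mem hh))
  -- no element of the core exchanging `e` and `z * e` commutes with `z1`
  have noComm : ∀ q ∈ Q, q * t = t * q → pol (ω₄ • S.π t) (S.π q) = 1 → z1 * q ≠ q * z1 := by
    intro q hq hqt hq1 hc
    set x := h⁻¹ * q * h with hx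
    have hxz : x * z = z * x := by
      calc x * z = h⁻¹ * (q * z1) * h := by rw [hx, hz1]; group
        _ = h⁻¹ * (z1 * q) * h := by rw [hc]
        _ = z * x := by rw [hx, hz1]; group
    have hxt : x * t = t * x := mem_CT.1
      (mul_mem (mul_mem (inv_mem (mem_CT.2 hht)) (mem_CT.2 hqt)) (mem_CT.2 hht))
    have hxe : x * e * x⁻¹ = h⁻¹ * z * h * e := by
      calc x * e * x⁻¹ = h⁻¹ * (q * (h * e * h⁻¹) * q⁻¹) * h := by rw [hx]; group
        _ = h⁻¹ * (q * e * q⁻¹) * h := by rw [hhe, mul_inv_cancel_right]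
        _ = h⁻¹ * z * (e * h) := by rw [H.swap_e hq hq1]; group
        _ = h⁻¹ * z * h * e := by rw [← hhe]; group
    have hconj : h⁻¹ * z * h = h⁻¹ * z * h⁻¹⁻¹ := by rw [inv_inv]
    rcases H.conj_e hxz hxt with h' | h' | h' | h' <;> rw [hxe] at h'
    · have h0 : h⁻¹ * z * h = 1 := mul_eq_right.1 h'
      exact S.z_ne (by calc z = h * (h⁻¹ * z * h) * h⁻¹ := by group
                         _ = 1 := by rw [h0]; group)
    · have h0 : h⁻¹ * z * h = z := mul_right_cancel h'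
      exact hne (by calc z1 = h * (h⁻¹ * z * h) * h⁻¹ := by rw [h0]
                      _ = z := by group)
    · exact H.not_conj H.htQ H.hv h⁻¹ (hconj.symm.trans (mul_right_cancel h'))
    · rw [← mul_assoc z t e] at h'
      exact H.not_conj (mul_mem S.hzQ H.htQ) (by rw [S.π_zmul H.htQ]; exact H.hv) h⁻¹
        (hconj.symm.trans (mul_right_cancel h'))
  have hρt : S.ρ z1 (S.π t) = S.π t := by
    rw [← S.ρ_π z1 hz1z t H.htQ, hz1t, mul_inv_cancel_right]
  have hz1Q : z1 ∉ Q := by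
    intro hQ
    have hw3 : cls (S.π z1) = 3 := S.cls_eq_three (H.pair h hQ hne)
    obtain ⟨u, hu1, hu2, hu3⟩ := third H.hv hw3 ((S.comm_iff H.htQ hQ).1 hz1t.symm)
    obtain ⟨q, hq, rfl⟩ := S.π_surj u
    exact noComm q hq ((S.comm_iff H.htQ hq).2 hu1).symm hu2 ((S.comm_iff hQ hq).2 hu3)
  have hρe : S.ρ z1 (ω₄ • S.π t) = ω₄ • S.π t := by
    rw [← H.he, ← S.ρ_π z1 hz1z e H.heQ, hz1e, mul_inv_cancel_right]
  have hk : S.ρ z1 ∈ Kl := by
    rcases H.semi_cases hz1z with hk | hs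
    · exact hk
    · exfalso
      rw [hs.smul, hρt, show tw true ω₄ = ω₄ * ω₄ from by decide +kernel, omega_sq_smul] at hρe
      have h0 : S.π t = 0 := add_eq_right.1 hρe
      have := H.hv
      rw [h0, ((facts (0 : Vec)).2.1).2 rfl] at this
      exact absurd this (by norm_num)
  have hk2 : S.ρ z1 * S.ρ z1 = 1 := by rw [← S.ρ_mul _ _ hz1z hz1z, hz1z1, S.ρ_one]
  have hk1 : S.ρ z1 ≠ 1 := fun h1 => hz1Q ((S.ρ_ker z1 hz1z).1 h1)
  obtain ⟨u, hu1, hu2, hu3⟩ := moved hk hk2 hk1 H.hv hρt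
  obtain ⟨q, hq, rfl⟩ := S.π_surj u
  have hqt : q * t = t * q := ((S.comm_iff H.htQ hq).2 hu1).symm
  set w := z1 * q * z1⁻¹ * q⁻¹ with hw
  have hm := S.norm z1 hz1z q hq
  have hwQ : w ∈ Q := mul_mem hm (inv_mem hq)
  have hπw : S.π w = S.ρ z1 (S.π q) + S.π q := by
    rw [hw, S.π_mul _ hm _ (inv_mem hq), S.ρ_π z1 hz1z q hq, S.π_inv hq]
  have hw4 : w = 1 ∨ w = z ∨ w = t ∨ w = z * t := by
    rcases hu3 with h3 | h3
    · have h0 : S.π w = 0 := by rw [hπw, h3]; exact vec_add_self _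
      rcases (S.π_zero w hwQ).1 h0 with h' | h'
      · exact Or.inl h'
      · exact Or.inr (Or.inl h')
    · have h0 : S.π w = S.π t := by
        rw [hπw, h3, add_comm (S.π q + S.π t), ← add_assoc, vec_add_self, zero_add]
      rcases S.π_eq H.htQ hwQ h0.symm with h' | h'
      · exact Or.inr (Or.inr (Or.inl h'))
      · exact Or.inr (Or.inr (Or.inr h'))
  have hz1i : z1⁻¹ = z1 := inv_eq_of_mul_eq_one_left hz1z1
  have hzq : z1 * q = w * q * z1 := by rw [hw]; group
  -- the action of `q` on `z1`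
  have hqz : q * z1 * q⁻¹ = w⁻¹ * z1 := by
    calc q * z1 * q⁻¹ = w⁻¹ * (w * q * z1) * q⁻¹ := by group
      _ = w⁻¹ * z1 := by rw [← hzq]; group
  have htz' : t * z = z * t := H.tz
  set c : G := h * a with hc
  have hct : c * t = t * c := mem_CT.1 (mul_mem (mem_CT.2 hht) (mem_CT.2 hat))
  have hX : c * e * c⁻¹ = z1 * e := by
    calc c * e * c⁻¹ = h * (a * e * a⁻¹) * h⁻¹ := by rw [hc]; group
      _ = h * z * (e * h⁻¹) := by rw [hae]; group
      _ = h * z * (h⁻¹ * e) := by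
          rw [(show Commute h e from hhe).inv_left.eq]
      _ = z1 * e := by rw [hz1]; group
  have hqX : q * (z1 * e) * q⁻¹ = w⁻¹ * (z1 * z) * e := by
    calc q * (z1 * e) * q⁻¹ = (q * z1 * q⁻¹) * (q * e * q⁻¹) := by group
      _ = _ := by rw [hqz, H.swap_e hq hu2]; group
  let qC : ↥(CT t) := ⟨q, mem_CT.2 hqt⟩
  let cC : ↥(CT t) := ⟨c, mem_CT.2 hct⟩
  have hfq : f qC = -1 := hf2 qC hq hu2
  have hconjf : f (cC⁻¹ * qC * cC) = -1 := by
    rw [map_mul, map_mul, map_inv, hfq, mul_comm _ (-1 : ℤˣ), mul_assoc, inv_mul_cancel, mul_one]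
  rcases hw4 with h1 | h1 | h1 | h1
  · exact absurd (by rw [hzq, h1, one_mul]) (noComm q hq hqt hu2)
  · exfalso
    have hfix : q * (z1 * e) * q⁻¹ = z1 * e := by
      rw [hqX, h1, inv_eq_of_mul_eq_one_left S.z_sq,
        show z * (z1 * z) = (z * z1) * z by group, ← hz1z, mul_assoc z1, S.z_sq, mul_one]
    have hy : (c⁻¹ * q * c) * e = e * (c⁻¹ * q * c) := by
      rw [← mul_inv_eq_iff_eq_mul]
      calc c⁻¹ * q * c * e * (c⁻¹ * q * c)⁻¹ = c⁻¹ * (q * (c * e * c⁻¹) * q⁻¹) * c := by group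
        _ = c⁻¹ * (c * e * c⁻¹) * c := by rw [hX, hfix]
        _ = e := by group
    have := hf1 (cC⁻¹ * qC * cC) hy
    rw [hconjf] at this
    exact absurd this (by decide)
  · exfalso
    rw [h1, inv_eq_of_mul_eq_one_left H.tt] at hqz
    have e2 : (h⁻¹ * q * h) * z * (h⁻¹ * q * h)⁻¹ = t * z := by
      calc h⁻¹ * q * h * z * (h⁻¹ * q * h)⁻¹ = h⁻¹ * (q * z1 * q⁻¹) * h := by rw [hz1]; group
        _ = (h⁻¹ * t) * (z1 * h) := by rw [hqz]; group
        _ = t * h⁻¹ * (z1 * h) := by rw [(show Commute h t from hht).inv_left.eq]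
        _ = t * z := by rw [hz1]; group
    exact H.not_conj (mul_mem H.htQ S.hzQ)
      (by rw [S.π_mul t H.htQ z S.hzQ, S.π_z, add_zero]; exact H.hv) _ e2
  · refine ⟨cC⁻¹ * qC * cC, hconjf, ?_⟩
    have hzt : (z * t)⁻¹ = t * z := by
      rw [mul_inv_rev, inv_eq_of_mul_eq_one_left H.tt, inv_eq_of_mul_eq_one_left S.z_sq]
    have hfix : q * (z1 * e) * q⁻¹ = t * (z1 * e) := by
      rw [hqX, h1, hzt, show t * z * (z1 * z) * e = t * (z * z1) * z * e by group, ← hz1z,
        show t * (z1 * z) * z * e = t * z1 * (z * z) * e by group, S.z_sq]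
      group
    show c⁻¹ * q * c * e * (c⁻¹ * q * c)⁻¹ = t * e
    calc c⁻¹ * q * c * e * (c⁻¹ * q * c)⁻¹ = c⁻¹ * (q * (c * e * c⁻¹) * q⁻¹) * c := by group
      _ = c⁻¹ * (t * (z1 * e)) * c := by rw [hX, hfix]
      _ = (c⁻¹ * t) * (z1 * e) * c := by group
      _ = t * c⁻¹ * (c * e * c⁻¹) * c := by rw [(show Commute c t from hct).inv_left.eq, hX]
      _ = t * e := by group

end Hyp

end Cfsg.Agent.H18.LFiFi22
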