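import Cfsg.Agent.H18.LFiFi22.CoreData
import Cfsg.Agent.H49.USix.Swap

/-!
A seed on the quotient of the centraliser of a line gives the quasisimple centraliser.
-/

set_option autoImplicit false

namespace Cfsg.Agent.H18.LFiFi22

open Cfsg.Agent.H41.LFi

universe u

/-- From a seed to the quasisimple centraliser of the line. -/
theorem six_of_seed {G : Type u} [Group G] [Finite G] {z : G} {Q : Subgroup G} {S : LSetup z Q}
    {t e : G} (H : Line S t e) {Qb : Subgroup (LineQuot H)}
    (T : H49.USix.Seed (zBar H) Qb) : Six t e := by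
  obtain ⟨F, i1, i2, hF, ⟨φ⟩⟩ := T.recognise
  exact six_of_quot H F hF φ

end Cfsg.Agent.H18.LFiFi22
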