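import Cfsg.Agent.H18.LFiFi22.Main
import Cfsg.Agent.S1713

/-!
Large Fischer type: the statement on the centraliser of a non-central involution of the core, from
one four-group with the shape of a line over the field with four elements.
-/

set_option autoImplicit false

namespace Cfsg.Agent.H18.LFiFi22

open Subgroup Cfsg.Agent.H41.SUSix Cfsg.Agent.H41.LFi

universe u

theorem char22 : Char22.{u} := fun d hd hq _ K _ _ hK e hnwc =>
  Cfsg.Agent.S1713.result d hd hq K hK e hnwc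

/-- The centraliser of a non-central involution of the core, given one four-group. -/
theorem top {G : Type u} [Group G] [Finite G] {z : G} {Q : Subgroup G} (S : LSetup z Q)
    (pair : ∀ g : G, g * z * g⁻¹ ∈ Q → g * z * g⁻¹ ≠ z → H92.PairSetting Q z g)
    {t0 e0 : G} (ht0 : t0 ∈ Q) (he0 : e0 ∈ Q) (ht0' : t0 * t0 = 1) (he0' : e0 * e0 = 1)
    (hv0 : cls (S.π t0) = 2) (hπ0 : S.π e0 = ω₄ • S.π t0) (h6 : Six t0 e0)
    {t : G} (htQ : t ∈ Q) (ht2 : orderOf t = 2) (hnc : ¬ IsConj z t)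
    [hn : ((zpowers t).subgroupOf (CT t)).Normal] :
    Cfsg.IsQuasisimple ↥(Cfsg.generalizedFittingSubgroup ↥(CT t)) ∧
      (Cfsg.generalizedFittingSubgroup ↥(CT t)).index = 2 ∧
      (∃ htc : t ∈ CT t, (⟨t, htc⟩ : ↥(CT t)) ∈ Cfsg.generalizedFittingSubgroup ↥(CT t)) ∧
      Nonempty (↥(CT t) ⧸ (zpowers t).subgroupOf (CT t) ≃* MulAut Cfsg.Spor.Fi22) := by
  have htt : t * t = 1 := by rw [← pow_two, ← ht2, pow_orderOf_eq_one]
  have ht1 : t ≠ 1 := fun h => by rw [h, orderOf_one] at ht2; omega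
  have hv := cls_eq_two S pair htQ ht1 htt hnc
  obtain ⟨e, H, h6'⟩ := exists_hyp S pair ht0 he0 ht0' he0' hv0 hπ0 h6 htQ htt hv
  exact centralizer_structure char22 S H h6' ht1

end Cfsg.Agent.H18.LFiFi22
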